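import Groth.Agent.Lib.AdicFS.Basic
import Mathlib.RingTheory.MvPowerSeries.Equiv
import Mathlib.RingTheory.AdicCompletion.Completeness

/-!
# Power series rings: evaluation at nilpotent elements, formal smoothness
-/

universe u

open EGA41 MvPowerSeries

namespace GrothLib.AdicFS

variable {A : Type u} [CommRing A] {n : ℕ}

/-- The ideal generated by the variables in the power series ring. -/
noncomputable def varsIdeal (A : Type u) [CommRing A] (n : ℕ) : Ideal (MvPowerSeries (Fin n) A) :=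
  (MvPolynomial.idealOfVars (Fin n) A).map (algebraMap (MvPolynomial (Fin n) A) (MvPowerSeries (Fin n) A))

theorem sub_truncTotal_mem (f : MvPowerSeries (Fin n) A) (m : ℕ) :
    f - algebraMap (MvPolynomial (Fin n) A) (MvPowerSeries (Fin n) A) (truncTotal m f) ∈
      varsIdeal A n ^ m := by
  set P := MvPolynomial (Fin n) A
  set J : Ideal P := MvPolynomial.idealOfVars (Fin n) A
  let e := (toAdicCompletionAlgEquiv (Fin n) A).toLinearEquiv
  set d := f - algebraMap P (MvPowerSeries (Fin n) A) (truncTotal m f)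
  have hfg : J.FG := Submodule.fg_span (Set.finite_range _)
  have h1 : e d ∈ (J ^ m • ⊤ : Submodule P (AdicCompletion J P)) := by
    rw [AdicCompletion.pow_smul_top_eq_ker_eval hfg, LinearMap.mem_ker]
    have h2 : truncTotalAlgHom (Fin n) A m d = 0 := by
      rw [map_sub, AlgHom.commutes, sub_eq_zero]
      rfl
    rw [truncTotalAlgHom_apply, Ideal.Quotient.eq_zero_iff_mem] at h2
    change (toAdicCompletion (Fin n) A d).val m = 0
    rw [toAdicCompletion_apply_eq_mk_truncTotal]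
    refine Ideal.Quotient.eq_zero_iff_mem.2 ?_
    rw [smul_eq_mul, Ideal.mul_top]
    exact h2
  have h3 : d ∈ (J ^ m • ⊤ : Submodule P (MvPowerSeries (Fin n) A)) := by
    have h4 := Submodule.mem_map_of_mem (f := e.symm.toLinearMap) h1
    rw [Submodule.map_smul'', Submodule.map_top, LinearEquiv.range] at h4
    simpa using h4
  rw [Ideal.smul_top_eq_map, Submodule.restrictScalars_mem, Ideal.map_pow] at h3
  exact h3

theorem varsIdeal_le_ker :
    varsIdeal A n ≤ RingHom.ker (MvPowerSeries.constantCoeff : MvPowerSeries (Fin n) A →+* A) := by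
  rw [varsIdeal, MvPolynomial.idealOfVars, Ideal.map_span, Ideal.span_le]
  rintro _ ⟨_, ⟨i, rfl⟩, rfl⟩
  rw [SetLike.mem_coe, RingHom.mem_ker, MvPowerSeries.algebraMap_apply']
  simp

theorem ker_constantCoeff :
    RingHom.ker (MvPowerSeries.constantCoeff : MvPowerSeries (Fin n) A →+* A) = varsIdeal A n := by
  refine le_antisymm (fun f hf => ?_) varsIdeal_le_ker
  have h := sub_truncTotal_mem f 1
  rw [pow_one] at h
  have h0 : truncTotal 1 f = 0 := by
    ext d
    rw [MvPolynomial.coeff_zero]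
    by_cases hd : Finsupp.degree d < 1
    · rw [coeff_truncTotal _ hd]
      have : d = 0 := (Finsupp.degree_eq_zero_iff d).1 (by omega)
      rw [this, coeff_zero_eq_constantCoeff_apply]
      exact hf
    · exact coeff_truncTotal_eq_zero _ (not_lt.1 hd)
  rwa [h0, map_zero, sub_zero] at h

/-- The ideal of definition of the product topology. -/
noncomputable def prodIdeal (𝔞 : Ideal A) (n : ℕ) : Ideal (MvPowerSeries (Fin n) A) :=
  𝔞.map (MvPowerSeries.C : A →+* MvPowerSeries (Fin n) A) ⊔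
    RingHom.ker (MvPowerSeries.constantCoeff : MvPowerSeries (Fin n) A →+* A)

variable {E : Type u} [CommRing E] [Algebra A E]

theorem isNilpotent_apply_X {𝔞 : Ideal A} (f : MvPowerSeries (Fin n) A →ₐ[A] E)
    (hf : ∃ m : ℕ, ∀ x ∈ prodIdeal 𝔞 n ^ m, f x = 0) (i : Fin n) :
    IsNilpotent (f (MvPowerSeries.X i)) := by
  obtain ⟨m, hm⟩ := hf
  refine ⟨m, ?_⟩
  rw [← map_pow]
  exact hm _ (Ideal.pow_mem_pow (Ideal.mem_sup_right (by simp)) m)

theorem algHom_ext_X {𝔞 : Ideal A} {f g : MvPowerSeries (Fin n) A →ₐ[A] E}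
    (hf : ∃ m : ℕ, ∀ x ∈ prodIdeal 𝔞 n ^ m, f x = 0) (hg : ∃ m : ℕ, ∀ x ∈ prodIdeal 𝔞 n ^ m, g x = 0)
    (h : ∀ i, f (MvPowerSeries.X i) = g (MvPowerSeries.X i)) : f = g := by
  obtain ⟨a, ha⟩ := hf
  obtain ⟨b, hb⟩ := hg
  have hP : ∀ p : MvPolynomial (Fin n) A, f (algebraMap _ (MvPowerSeries (Fin n) A) p) =
      g (algebraMap _ (MvPowerSeries (Fin n) A) p) := by
    have h1 : f.comp (IsScalarTower.toAlgHom A (MvPolynomial (Fin n) A) (MvPowerSeries (Fin n) A)) =
        g.comp (IsScalarTower.toAlgHom A (MvPolynomial (Fin n) A) (MvPowerSeries (Fin n) A)) := by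
      refine MvPolynomial.algHom_ext fun i => ?_
      simpa [MvPowerSeries.algebraMap_apply'] using h i
    exact fun p => AlgHom.congr_fun h1 p
  ext x
  have hx := sub_truncTotal_mem x (a + b)
  rw [← ker_constantCoeff] at hx
  have h1 := Ideal.pow_right_mono (le_sup_right :
    _ ≤ 𝔞.map (MvPowerSeries.C : A →+* MvPowerSeries (Fin n) A) ⊔ _) (a + b) hx
  have hfx := ha _ (Ideal.pow_le_pow_right le_self_add h1)
  have hgx := hb _ (Ideal.pow_le_pow_right le_add_self h1)
  rw [map_sub, sub_eq_zero] at hfx hgx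
  rw [hfx, hgx, hP]

theorem exists_eval (𝔞 : Ideal A) (hE : ∃ k : ℕ, (𝔞 ^ k).map (algebraMap A E) = ⊥)
    (z : Fin n → E) (hz : ∀ i, IsNilpotent (z i)) :
    ∃ g : MvPowerSeries (Fin n) A →ₐ[A] E, (∃ m : ℕ, ∀ x ∈ prodIdeal 𝔞 n ^ m, g x = 0) ∧
      ∀ i, g (MvPowerSeries.X i) = z i := by
  set J := MvPolynomial.idealOfVars (Fin n) A
  let ev : MvPolynomial (Fin n) A →ₐ[A] E := MvPolynomial.aeval z
  have hS : IsNilpotent (J.map ev) := by
    rw [show J = Ideal.span (Set.range MvPolynomial.X) from rfl, Ideal.map_span,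
      Ideal.FG.isNilpotent_iff_le_nilradical (Submodule.fg_span ((Set.finite_range _).image _))]
    rw [Ideal.span_le]
    rintro _ ⟨_, ⟨i, rfl⟩, rfl⟩
    simpa [ev, mem_nilradical] using hz i
  obtain ⟨N, hN⟩ := hS
  have hker : ∀ p ∈ J ^ (N + 1), ev p = 0 := fun p hp => by
    have h1 := Ideal.mem_map_of_mem ev hp
    rw [Ideal.map_pow, pow_succ, hN, zero_mul] at h1
    exact (Submodule.mem_bot E).1 h1
  let g : MvPowerSeries (Fin n) A →ₐ[A] E :=
    (Ideal.Quotient.liftₐ (J ^ (N + 1)) ev hker).comp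
      ((truncTotalAlgHom (Fin n) A (N + 1)).restrictScalars A)
  have hP : ∀ p : MvPolynomial (Fin n) A, g (algebraMap _ (MvPowerSeries (Fin n) A) p) = ev p :=
    fun p => congrArg (Ideal.Quotient.liftₐ (J ^ (N + 1)) ev hker)
      ((truncTotalAlgHom (Fin n) A (N + 1)).commutes p)
  refine ⟨g, ?_, fun i => ?_⟩
  · obtain ⟨k, hk⟩ := hE
    refine ⟨k + N, (kills_iff_map_eq_bot g _).2 ?_⟩
    rw [eq_bot_iff]
    refine (Ideal.map_mono Ideal.sup_pow_add_le_pow_sup_pow).trans ?_
    rw [Ideal.map_sup, sup_le_iff]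
    constructor
    · rw [← Ideal.map_pow, Ideal.map_map]
      refine (le_of_eq ?_).trans hk.le
      congr 1
      exact g.comp_algebraMap
    · rw [ker_constantCoeff, varsIdeal, ← Ideal.map_pow, Ideal.map_map]
      refine (le_of_eq ?_).trans ((Ideal.map_pow (ev : MvPolynomial (Fin n) A →+* E) J N).trans_le hN.le)
      congr 1
      exact RingHom.ext hP
  · have h1 := hP (MvPolynomial.X i)
    simpa [MvPowerSeries.algebraMap_apply', ev] using h1

theorem isFormallySmoothAdic_mvPowerSeries (𝔞 : Ideal A) (n : ℕ) :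
    IsFormallySmoothAdic A 𝔞 (MvPowerSeries (Fin n) A) (prodIdeal 𝔞 n) := by
  intro C _ _ J hJ hA u hu
  choose z hz using fun i => Ideal.Quotient.mk_surjective (u (MvPowerSeries.X i))
  have hnil : ∀ i, IsNilpotent (z i) := fun i => by
    obtain ⟨a, ha⟩ := isNilpotent_apply_X u hu i
    obtain ⟨b, hb⟩ := hJ
    rw [← hz i, ← map_pow, Ideal.Quotient.eq_zero_iff_mem] at ha
    refine ⟨a * b, ?_⟩
    rw [pow_mul, ← Ideal.mem_bot, ← Ideal.zero_eq_bot, ← hb]
    exact Ideal.pow_mem_pow ha b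
  obtain ⟨g, ⟨m, hg⟩, hgX⟩ := exists_eval 𝔞 hA z hnil
  refine ⟨g, algHom_ext_X ⟨m, fun x hx => ?_⟩ hu fun i => ?_⟩
  · rw [AlgHom.comp_apply, hg x hx, map_zero]
  · rw [AlgHom.comp_apply, hgX, ← hz i]
    rfl

end GrothLib.AdicFS
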