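import Groth.Prelude.Def_EGA41
import Groth.Prelude.Def_CAlgX
import Mathlib.RingTheory.Ideal.Quotient.Nilpotent
import Mathlib.RingTheory.Ideal.Quotient.ChineseRemainder
import Mathlib.RingTheory.Smooth.Basic

/-!
# Formal smoothness for adic topologies: elementary calculus
-/

universe u

open EGA41

namespace GrothLib.AdicFS

/-- Lifting against square-zero ideals, for adic topologies. -/
def SqLifts (A : Type u) [CommRing A] (𝔞 : Ideal A) (B : Type u) [CommRing B] [Algebra A B]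
    (𝔟 : Ideal B) : Prop :=
  ∀ (C : Type u) [CommRing C] [Algebra A C] (J : Ideal C), J ^ 2 = ⊥ →
    (∃ k : ℕ, (𝔞 ^ k).map (algebraMap A C) = ⊥) →
    ∀ u : B →ₐ[A] C ⧸ J, (∃ k : ℕ, ∀ x ∈ 𝔟 ^ k, u x = 0) →
      ∃ v : B →ₐ[A] C, (Ideal.Quotient.mkₐ A J).comp v = u

section continuity

variable {A B C : Type u} [CommRing A] [CommRing B] [CommRing C] [Algebra A B] [Algebra A C]

theorem map_pow_mk (J : Ideal C) {x : C} {m : ℕ} (hJ : J ^ m = ⊥) (hx : x ∈ J) : x ^ m = 0 := by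
  rw [← Ideal.mem_bot, ← hJ]
  exact Ideal.pow_mem_pow hx m

theorem kills_iff_map_eq_bot (f : B →ₐ[A] C) (I : Ideal B) :
    (∀ x ∈ I, f x = 0) ↔ I.map f.toRingHom = ⊥ := by
  rw [eq_bot_iff, Ideal.map_le_iff_le_comap]
  exact ⟨fun h x hx => Ideal.mem_bot.2 (h x hx), fun h x hx => Ideal.mem_bot.1 (h hx)⟩

/-- Continuity of a lift is automatic. -/
theorem exists_pow_of_lift {J : Ideal C} (hJ : IsNilpotent J) (v : B →ₐ[A] C) {I : Ideal B}
    (h : ∃ k : ℕ, ∀ x ∈ I ^ k, Ideal.Quotient.mk J (v x) = 0) :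
    ∃ k : ℕ, ∀ x ∈ I ^ k, v x = 0 := by
  obtain ⟨k, hk⟩ := h
  obtain ⟨m, hm⟩ := hJ
  refine ⟨k * m, (kills_iff_map_eq_bot v _).2 ?_⟩
  have hle : (I ^ k).map v.toRingHom ≤ J :=
    Ideal.map_le_iff_le_comap.2 fun x hx => show v x ∈ J from Ideal.Quotient.eq_zero_iff_mem.1 (hk x hx)
  rw [pow_mul, Ideal.map_pow, eq_bot_iff]
  exact (Ideal.pow_right_mono hle m).trans hm.le

theorem map_pow_eq_bot_of_le {R S : Type*} [CommRing R] [CommRing S] (f : R →+* S) {I : Ideal R}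
    {J : Ideal R} {k m : ℕ} (hIJ : I ^ k ≤ J) (h : (J ^ m).map f = ⊥) :
    (I ^ (k * m)).map f = ⊥ := by
  rw [eq_bot_iff, ← h, pow_mul]
  exact Ideal.map_mono (Ideal.pow_right_mono hIJ m)

theorem map_pow_eq_bot_of_map_le {R S T : Type*} [CommRing R] [CommRing S] [CommRing T]
    (f : R →+* S) (g : S →+* T) (h : R →+* T) (hgf : g.comp f = h) {I : Ideal R} {J : Ideal S}
    (hIJ : ∃ k : ℕ, (I ^ k).map f ≤ J) (hJ : ∃ m : ℕ, (J ^ m).map g = ⊥) :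
    ∃ n : ℕ, (I ^ n).map h = ⊥ := by
  obtain ⟨k, hk⟩ := hIJ
  obtain ⟨m, hm⟩ := hJ
  refine ⟨k * m, ?_⟩
  rw [eq_bot_iff, ← hgf, ← Ideal.map_map, pow_mul, Ideal.map_pow, ← hm]
  exact Ideal.map_mono (Ideal.pow_right_mono hk m)

theorem map_mk_eq_bot {R : Type*} [CommRing R] (f : R →+* C) (J : Ideal C) {I : Ideal R}
    (h : I.map f = ⊥) : I.map ((Ideal.Quotient.mk J).comp f) = ⊥ := by
  rw [← Ideal.map_map, h, Ideal.map_bot]

/-- Two homomorphisms to quotients which agree modulo the sum of the ideals combine. -/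
theorem exists_combine (I₁ I₂ : Ideal C) (g₁ : B →ₐ[A] C ⧸ I₁) (g₂ : B →ₐ[A] C ⧸ I₂)
    (h : (Ideal.Quotient.factorₐ A le_sup_left).comp g₁ =
      (Ideal.Quotient.factorₐ A (le_sup_right : I₂ ≤ I₁ ⊔ I₂)).comp g₂) :
    ∃ g : B →ₐ[A] C ⧸ I₁ ⊓ I₂, (Ideal.Quotient.factorₐ A inf_le_left).comp g = g₁ ∧
      (Ideal.Quotient.factorₐ A inf_le_right).comp g = g₂ := by
  let π : C ⧸ I₁ ⊓ I₂ →ₐ[A] (C ⧸ I₁) × (C ⧸ I₂) :=
    (Ideal.Quotient.factorₐ A inf_le_left).prod (Ideal.Quotient.factorₐ A inf_le_right)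
  have hπ : Function.Injective π := by
    rw [injective_iff_map_eq_zero]
    intro z hz
    obtain ⟨z, rfl⟩ := Ideal.Quotient.mk_surjective z
    exact Ideal.Quotient.eq_zero_iff_mem.2 ⟨Ideal.Quotient.eq_zero_iff_mem.1 (congrArg Prod.fst hz),
      Ideal.Quotient.eq_zero_iff_mem.1 (congrArg Prod.snd hz)⟩
  have hmem : ∀ b, g₁.prod g₂ b ∈ π.range := by
    intro b
    obtain ⟨c₁, hc₁⟩ := Ideal.Quotient.mk_surjective (g₁ b)
    obtain ⟨c₂, hc₂⟩ := Ideal.Quotient.mk_surjective (g₂ b)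
    have hd := AlgHom.congr_fun h b
    rw [AlgHom.comp_apply, AlgHom.comp_apply, ← hc₁, ← hc₂] at hd
    obtain ⟨i₁, hi₁, i₂, hi₂, he⟩ := Submodule.mem_sup.1
      (Ideal.Quotient.eq.1 (hd : Ideal.Quotient.mk (I₁ ⊔ I₂) c₁ = Ideal.Quotient.mk (I₁ ⊔ I₂) c₂))
    refine ⟨Ideal.Quotient.mk _ (c₁ - i₁), Prod.ext ?_ ?_⟩
    · change Ideal.Quotient.mk I₁ (c₁ - i₁) = g₁ b
      rw [← hc₁, Ideal.Quotient.eq, sub_sub_cancel_left]
      exact neg_mem hi₁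
    · change Ideal.Quotient.mk I₂ (c₁ - i₁) = g₂ b
      rw [← hc₂, Ideal.Quotient.eq]
      convert hi₂ using 1
      linear_combination -he
  refine ⟨(AlgEquiv.ofInjective π hπ).symm.toAlgHom.comp ((g₁.prod g₂).codRestrict π.range hmem),
    ?_, ?_⟩ <;> ext b
  · exact congrArg Prod.fst
      (congrArg Subtype.val ((AlgEquiv.ofInjective π hπ).apply_symm_apply ⟨_, hmem b⟩))
  · exact congrArg Prod.snd
      (congrArg Subtype.val ((AlgEquiv.ofInjective π hπ).apply_symm_apply ⟨_, hmem b⟩))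

end continuity

section main

variable {A B : Type u} [CommRing A] [CommRing B] [Algebra A B] {𝔞 : Ideal A} {𝔟 : Ideal B}

theorem sqLifts_of_isFormallySmoothAdic (h : IsFormallySmoothAdic A 𝔞 B 𝔟) : SqLifts A 𝔞 B 𝔟 :=
  fun C _ _ J hJ => h C J ⟨2, hJ⟩

theorem isFormallySmoothAdic_of_sqLifts (h : SqLifts A 𝔞 B 𝔟) :
    IsFormallySmoothAdic A 𝔞 B 𝔟 := by
  suffices key : ∀ (n : ℕ) (C : Type u) [CommRing C] [Algebra A C] (J : Ideal C), J ^ n = ⊥ →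
      (∃ k : ℕ, (𝔞 ^ k).map (algebraMap A C) = ⊥) →
      ∀ u : B →ₐ[A] C ⧸ J, (∃ k : ℕ, ∀ x ∈ 𝔟 ^ k, u x = 0) →
        ∃ v : B →ₐ[A] C, (Ideal.Quotient.mkₐ A J).comp v = u by
    intro C _ _ J ⟨n, hn⟩
    exact key n C J hn
  intro n
  induction n using Nat.strong_induction_on with
  | _ n ih =>
    intro C _ _ J hn hA u hu
    rcases le_or_gt n 2 with hn2 | hn2
    · exact h C J (le_bot_iff.1 ((Ideal.pow_le_pow_right hn2).trans hn.le)) hA u hu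
    let I : Ideal C := J ^ (n - 1)
    have hI2 : I ^ 2 = ⊥ := le_bot_iff.1 (by
      rw [← pow_mul]
      exact (Ideal.pow_le_pow_right (by omega : n ≤ (n - 1) * 2)).trans hn.le)
    have hIJ : I ≤ J := Ideal.pow_le_self (by omega)
    let J' : Ideal (C ⧸ I) := J.map (Ideal.Quotient.mk I)
    have hJ' : J' ^ (n - 1) = ⊥ := by rw [← Ideal.map_pow]; exact Ideal.map_quotient_self I
    have hA' : ∃ k : ℕ, (𝔞 ^ k).map (algebraMap A (C ⧸ I)) = ⊥ := by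
      obtain ⟨k, hk⟩ := hA
      exact ⟨k, map_mk_eq_bot (algebraMap A C) I hk⟩
    let e : ((C ⧸ I) ⧸ J') ≃ₐ[A] C ⧸ J :=
      { DoubleQuot.quotQuotEquivQuotOfLE hIJ with commutes' := fun _ => rfl }
    obtain ⟨w, hw⟩ := ih (n - 1) (by omega) (C ⧸ I) J' hJ' hA' (e.symm.toAlgHom.comp u) (by
      obtain ⟨k, hk⟩ := hu
      exact ⟨k, fun x hx => by rw [AlgHom.comp_apply, hk x hx, map_zero]⟩)
    obtain ⟨v, hv⟩ := h C I hI2 hA w (exists_pow_of_lift ⟨n - 1, hJ'⟩ w (by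
      obtain ⟨k, hk⟩ := hu
      refine ⟨k, fun x hx => ?_⟩
      change (Ideal.Quotient.mkₐ A J') (w x) = 0
      rw [← AlgHom.comp_apply, hw, AlgHom.comp_apply, hk x hx, map_zero]))
    refine ⟨v, AlgHom.ext fun x => ?_⟩
    have h1 := AlgHom.congr_fun hw x
    rw [AlgHom.comp_apply, ← AlgHom.congr_fun hv x] at h1
    exact (congrArg e h1).trans (e.apply_symm_apply (u x))

theorem isFormallySmoothAdic_iff_sqLifts : IsFormallySmoothAdic A 𝔞 B 𝔟 ↔ SqLifts A 𝔞 B 𝔟 :=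
  ⟨sqLifts_of_isFormallySmoothAdic, isFormallySmoothAdic_of_sqLifts⟩

theorem isAdicFormallySmooth_iff (𝔫 : Ideal B) :
    CAlgX.IsAdicFormallySmooth A B 𝔫 ↔ IsFormallySmoothAdic A ⊥ B 𝔫 := by
  rw [isFormallySmoothAdic_iff_sqLifts]
  refine ⟨fun h C _ _ J hJ _ => h C J hJ, fun h C _ _ J hJ => h C J hJ ⟨1, ?_⟩⟩
  rw [pow_one, Ideal.map_bot]

theorem formallySmoothAdic_trans {C : Type u} [CommRing C] [Algebra B C] [Algebra A C]
    [IsScalarTower A B C] {𝔠 : Ideal C}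
    (hBC : ∃ k : ℕ, (𝔟 ^ k).map (algebraMap B C) ≤ 𝔠)
    (hB : IsFormallySmoothAdic A 𝔞 B 𝔟) (hC : IsFormallySmoothAdic B 𝔟 C 𝔠) :
    IsFormallySmoothAdic A 𝔞 C 𝔠 := by
  intro E _ _ J hJ hA u hu
  obtain ⟨m, hm⟩ := hu
  let φ : B →ₐ[A] E ⧸ J := u.comp (IsScalarTower.toAlgHom A B C)
  have hφ : ∃ k : ℕ, (𝔟 ^ k).map φ.toRingHom = ⊥ :=
    map_pow_eq_bot_of_map_le (algebraMap B C) u.toRingHom φ.toRingHom rfl hBC
      ⟨m, (kills_iff_map_eq_bot u _).1 hm⟩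
  obtain ⟨k, hk⟩ := hφ
  obtain ⟨v, hv⟩ := hB E J hJ hA φ ⟨k, (kills_iff_map_eq_bot φ _).2 hk⟩
  obtain ⟨n, hn⟩ := exists_pow_of_lift hJ v (I := 𝔟) ⟨k, fun x hx =>
    (AlgHom.congr_fun hv x).trans ((kills_iff_map_eq_bot φ _).2 hk x hx)⟩
  letI : Algebra B E := v.toRingHom.toAlgebra
  haveI : IsScalarTower A B E := IsScalarTower.of_algebraMap_eq fun a => (v.commutes a).symm
  let u' : C →ₐ[B] E ⧸ J := { u.toRingHom with commutes' := fun b => (AlgHom.congr_fun hv b).symm }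
  obtain ⟨w, hw⟩ := hC E J hJ ⟨n, (kills_iff_map_eq_bot v _).1 hn⟩ u' ⟨m, hm⟩
  exact ⟨w.restrictScalars A, AlgHom.ext fun x => (AlgHom.congr_fun hw x :)⟩

theorem exists_lift_along_surjection [Algebra.FormallySmooth A B] {E E' : Type u} [CommRing E]
    [CommRing E'] [Algebra A E] [Algebra A E'] (R : Ideal E) (R' : Ideal E') (hR : IsNilpotent R)
    (f : E →ₐ[A] E') (hf : Function.Surjective f) (hfR : R.map f.toRingHom = R')
    (u : B →ₐ[A] E ⧸ R) (v' : B →ₐ[A] E')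
    (huv : (Ideal.Quotient.mkₐ A R').comp v' =
      (Ideal.quotientMapₐ R' f (fun x hx => hfR.le (Ideal.mem_map_of_mem f.toRingHom hx))).comp u) :
    ∃ v : B →ₐ[A] E, f.comp v = v' := by
  let K : Ideal E := RingHom.ker f.toRingHom
  let e : (E ⧸ K) ≃ₐ[A] E' := Ideal.quotientKerAlgEquivOfSurjective hf
  have hsup : K ⊔ R = R'.comap f.toRingHom := by
    rw [← hfR, Ideal.comap_map_of_surjective f.toRingHom hf, sup_comm]
    rfl
  obtain ⟨g, hg, -⟩ := exists_combine K R (e.symm.toAlgHom.comp v') u (AlgHom.ext fun b => by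
    obtain ⟨c, hc⟩ := Ideal.Quotient.mk_surjective (u b)
    obtain ⟨d, hd⟩ := Ideal.Quotient.mk_surjective (e.symm (v' b))
    rw [AlgHom.comp_apply, AlgHom.comp_apply, AlgHom.comp_apply, ← hc]
    change Ideal.Quotient.factorₐ A _ (e.symm (v' b)) = _
    rw [← hd]
    refine Ideal.Quotient.eq.2 (hsup.ge ?_)
    have h1 : Ideal.Quotient.mk R' (v' b) = Ideal.Quotient.mk R' (f c) :=
      (AlgHom.congr_fun huv b).trans (by rw [AlgHom.comp_apply, ← hc]; rfl)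
    have h2 : v' b = f d := (AlgEquiv.symm_apply_eq e).1 hd.symm
    rw [Ideal.mem_comap, map_sub]
    exact Ideal.Quotient.eq.1 (h2 ▸ h1))
  have hn : IsNilpotent (K ⊓ R) := by
    obtain ⟨n, hn⟩ := hR
    exact ⟨n, le_bot_iff.1 ((Ideal.pow_right_mono inf_le_right n).trans hn.le)⟩
  refine ⟨Algebra.FormallySmooth.lift (K ⊓ R) hn g, AlgHom.ext fun b => ?_⟩
  have h1 := congrArg e ((congrArg (Ideal.Quotient.factorₐ A inf_le_left)
    (Algebra.FormallySmooth.mk_lift (K ⊓ R) hn g b)).trans (AlgHom.congr_fun hg b))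
  exact h1.trans (e.apply_symm_apply (v' b))

theorem formallySmoothAdic_baseChange {A' : Type u} [CommRing A'] [Algebra A A'] {𝔞' : Ideal A'}
    (hAA' : ∃ k : ℕ, (𝔞 ^ k).map (algebraMap A A') ≤ 𝔞') (hB : IsFormallySmoothAdic A 𝔞 B 𝔟)
    {𝔮 : Ideal (TensorProduct A A' B)}
    (h𝔮 : 𝔟.map (Algebra.TensorProduct.includeRight : B →ₐ[A] TensorProduct A A' B).toRingHom ≤ 𝔮) :
    IsFormallySmoothAdic A' 𝔞' (TensorProduct A A' B) 𝔮 := by
  intro E _ _ J hJ hA u hu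
  letI : Algebra A E := ((algebraMap A' E).comp (algebraMap A A')).toAlgebra
  haveI : IsScalarTower A A' E := IsScalarTower.of_algebraMap_eq fun _ => rfl
  obtain ⟨m, hm⟩ := hu
  let φ : B →ₐ[A] E ⧸ J := (u.restrictScalars A).comp Algebra.TensorProduct.includeRight
  obtain ⟨v, hv⟩ := hB E J hJ (map_pow_eq_bot_of_map_le _ _ _ rfl hAA' hA) φ ⟨m, fun x hx =>
    hm _ (Ideal.pow_right_mono h𝔮 m (by rw [← Ideal.map_pow]; exact Ideal.mem_map_of_mem _ hx))⟩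
  refine ⟨Algebra.TensorProduct.lift (Algebra.ofId A' E) v fun _ _ => Commute.all _ _, ?_⟩
  refine Algebra.TensorProduct.ext (AlgHom.ext fun a => ?_) (AlgHom.ext fun b => ?_)
  · simpa using (u.commutes a).symm
  · have := AlgHom.congr_fun hv b
    simpa [φ] using this

end main

end GrothLib.AdicFS
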