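import Groth.Agent.Lib.AdicFS.Basic
import Mathlib.RingTheory.AdicCompletion.RingHom
import Mathlib.RingTheory.AdicCompletion.Completeness
import Mathlib.RingTheory.Filtration

/-!
# Adic formal smoothness and completions
-/

universe u

open EGA41

namespace GrothLib.AdicFS

variable {A B : Type u} [CommRing A] [CommRing B] [Algebra A B] {𝔞 : Ideal A} {𝔟 : Ideal B}

/-- Extending a lift from `C ⧸ 𝔠 ^ n` to `C ⧸ 𝔠 ^ (n + 1)`, compatibly with a map to `C ⧸ J`. -/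
theorem exists_succ_lift {C : Type u} [CommRing C] [Algebra A C] {𝔠 J : Ideal C}
    (hB : IsFormallySmoothAdic A 𝔞 B 𝔟) (hAC : ∃ k : ℕ, (𝔞 ^ k).map (algebraMap A C) ≤ 𝔠)
    (hJ : ∃ t : ℕ, J ^ t ≤ 𝔠)
    (u : B →ₐ[A] C ⧸ J) (hu : ∃ k : ℕ, (𝔟 ^ k).map u.toRingHom ≤ 𝔠.map (Ideal.Quotient.mk J))
    {n : ℕ} (g : B →ₐ[A] C ⧸ 𝔠 ^ n)
    (hg : ∀ x c, g x = Ideal.Quotient.mk _ c → ∀ c', u x = Ideal.Quotient.mk J c' → c - c' ∈ J ⊔ 𝔠 ^ n) :
    ∃ g' : B →ₐ[A] C ⧸ 𝔠 ^ (n + 1),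
      (∀ x c, g' x = Ideal.Quotient.mk _ c → ∀ c', u x = Ideal.Quotient.mk J c' →
        c - c' ∈ J ⊔ 𝔠 ^ (n + 1)) ∧
      (Ideal.Quotient.factorₐ A (Ideal.pow_le_pow_right n.le_succ)).comp g' = g := by
  obtain ⟨G, hG₁, hG₂⟩ := exists_combine J (𝔠 ^ n) u g (AlgHom.ext fun x => by
    obtain ⟨c, hc⟩ := Ideal.Quotient.mk_surjective (g x)
    obtain ⟨c', hc'⟩ := Ideal.Quotient.mk_surjective (u x)
    rw [AlgHom.comp_apply, AlgHom.comp_apply, ← hc, ← hc']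
    refine Ideal.Quotient.eq.2 ?_
    rw [← neg_sub c c']
    exact neg_mem (hg x c hc.symm c' hc'.symm))
  let N : Ideal C := J ⊓ 𝔠 ^ n ⊔ 𝔠 ^ (n + 1)
  have hN : 𝔠 ^ (n + 1) ≤ N := le_sup_right
  have hNn : N ≤ 𝔠 ^ n := sup_le inf_le_right (Ideal.pow_le_pow_right n.le_succ)
  have hNJ : N ≤ J ⊔ 𝔠 ^ (n + 1) := sup_le_sup_right inf_le_left _
  let w : B →ₐ[A] C ⧸ N := (Ideal.Quotient.factorₐ A le_sup_left).comp G
  let J' : Ideal (C ⧸ 𝔠 ^ (n + 1)) := N.map (Ideal.Quotient.mk _)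
  let e : ((C ⧸ 𝔠 ^ (n + 1)) ⧸ J') ≃ₐ[A] C ⧸ N :=
    { DoubleQuot.quotQuotEquivQuotOfLE hN with commutes' := fun _ => rfl }
  obtain ⟨t, ht⟩ := hJ
  obtain ⟨k, hk⟩ := hu
  obtain ⟨a, ha⟩ := hAC
  have hJn : (J ⊔ 𝔠 ^ (n + 1)) ^ (t * (n + 1) + 1) ≤ 𝔠 ^ (n + 1) := by
    refine Ideal.sup_pow_add_le_pow_sup_pow.trans (sup_le ?_ (pow_one _).le)
    rw [pow_mul]
    exact Ideal.pow_right_mono ht _
  have hJ' : IsNilpotent J' := by
    refine ⟨t * (n + 1) + 1, ?_⟩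
    rw [← Ideal.map_pow, Ideal.zero_eq_bot, Ideal.map_eq_bot_iff_le_ker, Ideal.mk_ker]
    exact (Ideal.pow_right_mono hNJ _).trans hJn
  have hA : ∃ k : ℕ, (𝔞 ^ k).map (algebraMap A (C ⧸ 𝔠 ^ (n + 1))) = ⊥ := by
    refine map_pow_eq_bot_of_map_le (algebraMap A C) (Ideal.Quotient.mk (𝔠 ^ (n + 1))) _ rfl ⟨a, ha⟩
      ⟨n + 1, Ideal.map_quotient_self _⟩
  -- continuity of `w`
  have hw : ∃ m : ℕ, ∀ x ∈ 𝔟 ^ m, w x = 0 := by
    have hK : IsNilpotent ((J ⊔ 𝔠 ^ (n + 1)).map (Ideal.Quotient.mk N)) := by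
      refine ⟨t * (n + 1) + 1, ?_⟩
      rw [← Ideal.map_pow, Ideal.zero_eq_bot, Ideal.map_eq_bot_iff_le_ker, Ideal.mk_ker]
      exact hJn.trans hN
    refine exists_pow_of_lift hK w ⟨k * (n + 1), fun x hx => ?_⟩
    obtain ⟨c, hc⟩ := Ideal.Quotient.mk_surjective (G x)
    have hux : u x = Ideal.Quotient.mk J c := by rw [← AlgHom.congr_fun hG₁ x, AlgHom.comp_apply, ← hc]; rfl
    have h1 : u x ∈ (𝔠 ^ (n + 1)).map (Ideal.Quotient.mk J) := by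
      rw [Ideal.map_pow]
      refine Ideal.pow_right_mono hk (n + 1) ?_
      rw [← Ideal.map_pow, ← pow_mul]
      exact Ideal.mem_map_of_mem u.toRingHom hx
    obtain ⟨d, hd, hdc⟩ := (Ideal.mem_map_iff_of_surjective _ Ideal.Quotient.mk_surjective).1 h1
    rw [hux, Ideal.Quotient.eq] at hdc
    change Ideal.Quotient.mk _ (Ideal.Quotient.factorₐ A (le_sup_left : J ⊓ 𝔠 ^ n ≤ N) (G x)) = 0
    rw [← hc]
    refine Ideal.Quotient.eq_zero_iff_mem.2 (Ideal.mem_map_of_mem _ ?_)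
    rw [← sub_sub_cancel d c]
    exact sub_mem (Ideal.mem_sup_right hd) (Ideal.mem_sup_left hdc)
  obtain ⟨m, hm⟩ := hw
  obtain ⟨g', hg'⟩ := hB (C ⧸ 𝔠 ^ (n + 1)) J' hJ' hA (e.symm.toAlgHom.comp w)
    ⟨m, fun x hx => by rw [AlgHom.comp_apply, hm x hx, map_zero]⟩
  have hkey : ∀ x d c, g' x = Ideal.Quotient.mk _ d → G x = Ideal.Quotient.mk _ c → d - c ∈ N := by
    intro x d c hd hc
    have h1 := congrArg e (AlgHom.congr_fun hg' x)
    rw [AlgHom.comp_apply, AlgHom.comp_apply, hd] at h1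
    change Ideal.Quotient.mk N d = e (e.symm (w x)) at h1
    rw [e.apply_symm_apply] at h1
    exact Ideal.Quotient.eq.1 (h1.trans (show (Ideal.Quotient.factorₐ A (le_sup_left : J ⊓ 𝔠 ^ n ≤ N)) (G x) = Ideal.Quotient.mk N c by rw [hc]; rfl))
  refine ⟨g', fun x d hd c' hc' => ?_, AlgHom.ext fun x => ?_⟩
  · obtain ⟨c, hc⟩ := Ideal.Quotient.mk_surjective (G x)
    have hux : u x = Ideal.Quotient.mk J c := by rw [← AlgHom.congr_fun hG₁ x, AlgHom.comp_apply, ← hc]; rfl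
    rw [← sub_add_sub_cancel d c c']
    exact add_mem (hNJ (hkey x d c hd hc.symm))
      (Ideal.mem_sup_left (Ideal.Quotient.eq.1 (hux.symm.trans hc')))
  · obtain ⟨c, hc⟩ := Ideal.Quotient.mk_surjective (G x)
    obtain ⟨d, hd⟩ := Ideal.Quotient.mk_surjective (g' x)
    rw [← AlgHom.congr_fun hG₂ x, AlgHom.comp_apply, AlgHom.comp_apply, ← hc, ← hd]
    exact Ideal.Quotient.eq.2 (hNn (hkey x d c hd.symm hc.symm))

/-- Lifting to adically complete rings. -/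
theorem exists_lift_adicComplete {C : Type u} [CommRing C] [Algebra A C] {𝔠 J : Ideal C}
    (hB : IsFormallySmoothAdic A 𝔞 B 𝔟) [IsAdicComplete 𝔠 C]
    (hAC : ∃ k : ℕ, (𝔞 ^ k).map (algebraMap A C) ≤ 𝔠) (hJ : ∃ t : ℕ, J ^ t ≤ 𝔠)
    [IsHausdorff (𝔠.map (Ideal.Quotient.mk J)) (C ⧸ J)]
    (u : B →ₐ[A] C ⧸ J) (hu : ∃ k : ℕ, (𝔟 ^ k).map u.toRingHom ≤ 𝔠.map (Ideal.Quotient.mk J)) :
    ∃ v : B →ₐ[A] C, (∃ k : ℕ, (𝔟 ^ k).map v.toRingHom ≤ 𝔠) ∧
      (Ideal.Quotient.mkₐ A J).comp v = u := by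
  let P : ∀ n, (B →ₐ[A] C ⧸ 𝔠 ^ n) → Prop := fun n g =>
    ∀ x c, g x = Ideal.Quotient.mk _ c → ∀ c', u x = Ideal.Quotient.mk J c' → c - c' ∈ J ⊔ 𝔠 ^ n
  let g₀ : { g // P 0 g } :=
    ⟨(Ideal.Quotient.factorₐ A (by rw [pow_zero, Ideal.one_eq_top]; exact le_top)).comp u,
      fun x c _ c' _ => by rw [pow_zero, Ideal.one_eq_top, sup_top_eq]; exact Submodule.mem_top⟩
  choose next hnext₁ hnext₂ using
    fun (n : ℕ) (g : { g // P n g }) => exists_succ_lift hB hAC hJ u hu g.1 g.2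
  let seq : ∀ n, { g // P n g } :=
    fun n => Nat.rec (motive := fun n => { g // P n g }) g₀
      (fun n g => ⟨next n g, hnext₁ n g⟩) n
  let v := IsAdicComplete.liftAlgHom 𝔠 (fun n => (seq n).1) (fun {m n} hle => by
    induction hle with
    | refl => ext x; obtain ⟨c, hc⟩ := Ideal.Quotient.mk_surjective ((seq m).1 x)
              rw [AlgHom.comp_apply, ← hc]; rfl
    | @step n hle ih =>
        ext x
        have h1 := AlgHom.congr_fun (hnext₂ n (seq n)) x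
        obtain ⟨c, hc⟩ := Ideal.Quotient.mk_surjective ((seq (n + 1)).1 x)
        rw [AlgHom.comp_apply] at h1
        rw [← ih, AlgHom.comp_apply, AlgHom.comp_apply, ← h1, ← hc]
        rfl)
  have hv : ∀ n x, Ideal.Quotient.mk (𝔠 ^ n) (v x) = (seq n).1 x :=
    fun n x => IsAdicComplete.mk_liftAlgHom 𝔠 _ _ n x
  have hvu : (Ideal.Quotient.mkₐ A J).comp v = u := by
    ext x
    obtain ⟨c', hc'⟩ := Ideal.Quotient.mk_surjective (u x)
    rw [AlgHom.comp_apply, Ideal.Quotient.mkₐ_eq_mk, ← sub_eq_zero]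
    refine IsHausdorff.haus ‹IsHausdorff (𝔠.map (Ideal.Quotient.mk J)) (C ⧸ J)› _ fun n => ?_
    rw [SModEq.zero, Ideal.smul_eq_mul, Ideal.mul_top, ← hc', ← map_sub, ← Ideal.map_pow,
      Ideal.mem_quotient_iff_mem_sup, sup_comm]
    exact (seq n).2 x (v x) (hv n x).symm c' hc'.symm
  refine ⟨v, ?_, hvu⟩
  obtain ⟨t, ht⟩ := hJ
  obtain ⟨k, hk⟩ := hu
  obtain ⟨m, hm⟩ := exists_pow_of_lift (J := J.map (Ideal.Quotient.mk 𝔠))
    ⟨t, by rw [← Ideal.map_pow, Ideal.zero_eq_bot, Ideal.map_eq_bot_iff_le_ker, Ideal.mk_ker]; exact ht⟩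
    ((Ideal.Quotient.mkₐ A 𝔠).comp v) (I := 𝔟) ⟨k, fun x hx => by
      have h1 : Ideal.Quotient.mk J (v x) ∈ 𝔠.map (Ideal.Quotient.mk J) := by
        rw [show Ideal.Quotient.mk J (v x) = u x from AlgHom.congr_fun hvu x]
        exact hk (Ideal.mem_map_of_mem u.toRingHom hx)
      rw [Ideal.mem_quotient_iff_mem_sup] at h1
      rw [Ideal.Quotient.eq_zero_iff_mem, AlgHom.comp_apply, Ideal.Quotient.mkₐ_eq_mk,
        Ideal.mem_quotient_iff_mem_sup, sup_comm]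
      exact h1⟩
  exact ⟨m, Ideal.map_le_iff_le_comap.2 fun x hx =>
    (Ideal.Quotient.eq_zero_iff_mem (I := 𝔠) (a := v x)).1 (hm x hx)⟩

/-- The kernel of the evaluation of the completion at level `n`. -/
theorem ker_evalₐ {R : Type u} [CommRing R] {I : Ideal R} (hI : I.FG) (n : ℕ) :
    RingHom.ker (AdicCompletion.evalₐ I n) =
      (I.map (algebraMap R (AdicCompletion I R))) ^ n := by
  ext x
  rw [← Ideal.map_pow, ← Submodule.restrictScalars_mem R, ← Submodule.restrictScalars_mem R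
    ((I ^ n).map _), ← Ideal.smul_top_eq_map, AdicCompletion.pow_smul_top_eq_ker_eval hI,
    Submodule.restrictScalars_mem, RingHom.mem_ker, LinearMap.mem_ker,
    ← AdicCompletion.factor_eval_eq_evalₐ I x (Ideal.mul_top _).le]
  refine ⟨fun h => ?_, fun h => by rw [h]; exact map_zero _⟩
  obtain ⟨y, hy⟩ := Ideal.Quotient.mk_surjective (AdicCompletion.eval I R n x)
  rw [← hy] at h ⊢
  exact Ideal.Quotient.eq_zero_iff_mem.2 ((Ideal.mul_top _).ge (Ideal.Quotient.eq_zero_iff_mem.1 h))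

theorem evalₐ_algebraMap {R : Type u} [CommRing R] (I : Ideal R) (n : ℕ) (b : R) :
    AdicCompletion.evalₐ I n (algebraMap R (AdicCompletion I R) b) = Ideal.Quotient.mk (I ^ n) b :=
  (AdicCompletion.evalₐ I n).commutes b

theorem isFormallySmoothAdic_adicCompletion_iff (h𝔟 : 𝔟.FG) :
    IsFormallySmoothAdic A 𝔞 B 𝔟 ↔
      IsFormallySmoothAdic A 𝔞 (AdicCompletion 𝔟 B)
        (𝔟.map (algebraMap B (AdicCompletion 𝔟 B))) := by
  let of : B →ₐ[A] AdicCompletion 𝔟 B := IsScalarTower.toAlgHom A B (AdicCompletion 𝔟 B)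
  let ev : ∀ n, AdicCompletion 𝔟 B →ₐ[A] B ⧸ 𝔟 ^ n :=
    fun n => (AdicCompletion.evalₐ 𝔟 n).restrictScalars A
  have hev : ∀ n b, ev n (of b) = Ideal.Quotient.mk (𝔟 ^ n) b := evalₐ_algebraMap 𝔟
  constructor
  · intro h C _ _ J hJ hA u hu
    obtain ⟨k, hk⟩ := hu
    have hk' : ∀ b ∈ 𝔟 ^ k, u (of b) = 0 := fun b hb => hk _ (by
      rw [← Ideal.map_pow]; exact Ideal.mem_map_of_mem _ hb)
    obtain ⟨v, hv⟩ := h C J hJ hA (u.comp of) ⟨k, hk'⟩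
    obtain ⟨m, hm⟩ := exists_pow_of_lift hJ v (I := 𝔟)
      ⟨k, fun b hb => (AlgHom.congr_fun hv b).trans (hk' b hb)⟩
    refine ⟨(Ideal.Quotient.liftₐ _ v hm).comp (ev m), AlgHom.ext fun x => ?_⟩
    obtain ⟨b, hb⟩ := Ideal.Quotient.mk_surjective (ev (max m k) x)
    have hmem : x - of b ∈ RingHom.ker (AdicCompletion.evalₐ 𝔟 (max m k)) := by
      rw [RingHom.mem_ker, map_sub]
      exact sub_eq_zero.2 (hb.symm.trans (hev _ b).symm)
    rw [ker_evalₐ h𝔟] at hmem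
    have h1 : u x = u (of b) := by
      rw [← sub_eq_zero, ← map_sub]
      exact hk _ (Ideal.pow_le_pow_right (le_max_right m k) hmem)
    have h2 : ev m x = ev m (of b) := by
      rw [← sub_eq_zero, ← map_sub]
      refine RingHom.mem_ker.1 (?_ : x - of b ∈ RingHom.ker (AdicCompletion.evalₐ 𝔟 m))
      rw [ker_evalₐ h𝔟]
      exact Ideal.pow_le_pow_right (le_max_left m k) hmem
    rw [h1, AlgHom.comp_apply, AlgHom.comp_apply, h2, hev]
    exact AlgHom.congr_fun hv b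
  · intro h C _ _ J hJ hA u hu
    obtain ⟨k, hk⟩ := hu
    obtain ⟨v, hv⟩ := h C J hJ hA ((Ideal.Quotient.liftₐ _ u hk).comp (ev k)) ⟨k, fun x hx => by
      rw [← ker_evalₐ h𝔟, RingHom.mem_ker] at hx
      change Ideal.Quotient.liftₐ _ u hk (AdicCompletion.evalₐ 𝔟 k x) = 0
      rw [hx, map_zero]⟩
    refine ⟨v.comp of, AlgHom.ext fun b => ?_⟩
    refine (AlgHom.congr_fun hv (of b)).trans ?_
    rw [AlgHom.comp_apply, hev]
    rfl

end GrothLib.AdicFS
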