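import Mathlib

/-!
# Quotients of adic completions at finitely generated ideals
-/

set_option autoImplicit false
universe u

namespace GrothLib.AdicFS

variable {S : Type u} [CommRing S] {𝔫 : Ideal S} (h𝔫 : 𝔫.FG)

include h𝔫 in
theorem mem_map_pow_iff (k : ℕ) (x : AdicCompletion 𝔫 S) :
    x ∈ 𝔫.map (algebraMap S (AdicCompletion 𝔫 S)) ^ k ↔ AdicCompletion.evalₐ 𝔫 k x = 0 := by
  rw [← Ideal.map_pow, ← Submodule.restrictScalars_mem S, ← Ideal.smul_top_eq_map,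
    AdicCompletion.pow_smul_top_eq_ker_eval h𝔫, LinearMap.mem_ker]
  show _ ↔ Ideal.Quotient.factor (show 𝔫 ^ k • (⊤ : Ideal S) ≤ 𝔫 ^ k from (Ideal.mul_top _).le)
    (AdicCompletion.eval 𝔫 S k x) = 0
  refine ⟨fun h => by rw [h, map_zero], fun h => ?_⟩
  obtain ⟨s, hs⟩ := Submodule.Quotient.mk_surjective _ (AdicCompletion.eval 𝔫 S k x)
  rw [← hs] at h ⊢
  rw [Submodule.Quotient.mk_eq_zero, smul_eq_mul, Ideal.mul_top]
  exact Ideal.Quotient.eq_zero_iff_mem.1 h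

include h𝔫 in
theorem exists_sub_mem_map_pow (k : ℕ) (x : AdicCompletion 𝔫 S) :
    ∃ s : S, x - algebraMap S _ s ∈ 𝔫.map (algebraMap S (AdicCompletion 𝔫 S)) ^ k := by
  obtain ⟨s, hs⟩ := Ideal.Quotient.mk_surjective (AdicCompletion.evalₐ 𝔫 k x)
  refine ⟨s, (mem_map_pow_iff h𝔫 k _).2 ?_⟩
  rw [map_sub, (AdicCompletion.evalₐ 𝔫 k).commutes, Ideal.Quotient.algebraMap_eq, hs, sub_self]

include h𝔫 in
/-- Ring maps out of a completion which agree on the ring and kill a power of the ideal are equal. -/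
theorem ringHom_ext {A : Type u} [CommRing A] (f g : AdicCompletion 𝔫 S →+* A) (k : ℕ)
    (hf : (𝔫.map (algebraMap S (AdicCompletion 𝔫 S)) ^ k).map f = ⊥)
    (hg : (𝔫.map (algebraMap S (AdicCompletion 𝔫 S)) ^ k).map g = ⊥)
    (h : ∀ s, f (algebraMap S _ s) = g (algebraMap S _ s)) : f = g := by
  refine RingHom.ext fun x => ?_
  obtain ⟨s, hs⟩ := exists_sub_mem_map_pow h𝔫 k x
  have h1 : f (x - algebraMap S _ s) = 0 := (Submodule.mem_bot A).1 (hf.le (Ideal.mem_map_of_mem f hs))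
  have h2 : g (x - algebraMap S _ s) = 0 := (Submodule.mem_bot A).1 (hg.le (Ideal.mem_map_of_mem g hs))
  rw [map_sub, sub_eq_zero] at h1 h2
  rw [h1, h2, h]

end GrothLib.AdicFS
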