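import Groth.Agent.Lib.AdicFS.Basic
import Mathlib.RingTheory.Kaehler.Basic
import Mathlib.Algebra.TrivSqZeroExt.Basic
import Mathlib.LinearAlgebra.TensorProduct.Tower
import Mathlib.LinearAlgebra.TensorProduct.RightExactness

/-!
# Differentials of adically formally smooth algebras
-/

universe u

open EGA41 TrivSqZeroExt
open scoped TensorProduct

namespace GrothLib.AdicFS

variable {A B : Type u} [CommRing A] [CommRing B] [Algebra A B] {𝔞 : Ideal A} {𝔟 : Ideal B}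

section

variable {B₀ M N : Type u} [CommRing B₀] [Algebra A B₀] [Algebra B B₀] [IsScalarTower A B B₀]
  [AddCommGroup M] [Module A M] [Module B M] [Module B₀ M] [IsScalarTower A B₀ M]
  [IsScalarTower B B₀ M]
  [AddCommGroup N] [Module A N] [Module B N] [Module B₀ N] [IsScalarTower A B₀ N]
  [IsScalarTower B B₀ N]

/-- Derivations of an adically formally smooth algebra into discrete modules lift along
surjections. -/
theorem exists_derivation_lift (hAB : ∃ k : ℕ, (𝔞 ^ k).map (algebraMap A B) ≤ 𝔟)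
    (h : IsFormallySmoothAdic A 𝔞 B 𝔟) (hB₀ : ∃ n : ℕ, ∀ x ∈ 𝔟 ^ n, algebraMap B B₀ x = 0)
    (π : M →ₗ[B₀] N) (hπ : Function.Surjective π) (d : Derivation A B N) :
    ∃ D : Derivation A B M, ∀ x, π (D x) = d x := by
  letI : Module B₀ᵐᵒᵖ M := Module.compHom M ((RingHom.id B₀).fromOpposite mul_comm)
  haveI : IsCentralScalar B₀ M := ⟨fun _ _ => rfl⟩
  letI : Module B₀ᵐᵒᵖ N := Module.compHom N ((RingHom.id B₀).fromOpposite mul_comm)
  haveI : IsCentralScalar B₀ N := ⟨fun _ _ => rfl⟩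
  haveI : IsScalarTower A B₀ᵐᵒᵖ M := ⟨fun a r m => smul_assoc a (MulOpposite.unop r) m⟩
  haveI : IsScalarTower A B₀ᵐᵒᵖ N := ⟨fun a r m => smul_assoc a (MulOpposite.unop r) m⟩
  let φ : B →ₐ[A] B₀ := IsScalarTower.toAlgHom A B B₀
  let P : TrivSqZeroExt B₀ M →ₐ[A] TrivSqZeroExt B₀ N := (TrivSqZeroExt.map π).restrictScalars A
  have hPsurj : Function.Surjective P := fun x => by
    obtain ⟨m, hm⟩ := hπ x.snd
    exact ⟨inl x.fst + inr m, by ext <;> simp [P, hm]⟩
  let J : Ideal (TrivSqZeroExt B₀ M) := RingHom.ker P.toRingHom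
  have hJ : J ^ 2 = ⊥ := by
    rw [pow_two, eq_bot_iff, Ideal.mul_le]
    intro x hx y hy
    have hx' : x.fst = 0 := by simpa [P] using congrArg TrivSqZeroExt.fst (RingHom.mem_ker.1 hx)
    have hy' : y.fst = 0 := by simpa [P] using congrArg TrivSqZeroExt.fst (RingHom.mem_ker.1 hy)
    rw [Ideal.mem_bot]
    ext <;> simp [hx', hy']
  let e : (TrivSqZeroExt B₀ M ⧸ J) ≃ₐ[A] TrivSqZeroExt B₀ N :=
    Ideal.quotientKerAlgEquivOfSurjective hPsurj
  let u : B →ₐ[A] TrivSqZeroExt B₀ N :=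
    { toFun := fun b => inl (φ b) + inr (d b)
      map_one' := by ext <;> simp
      map_mul' := fun x y => by
        ext
        · simp
        · simp [φ, op_smul_eq_smul, Derivation.leibniz, algebraMap_smul]
      map_zero' := by ext <;> simp
      map_add' := fun x y => by ext <;> simp
      commutes' := fun a => by ext <;> simp [φ, algebraMap_eq_inl'] }
  obtain ⟨n, hn⟩ := hB₀
  have hu1 : ∀ x ∈ 𝔟 ^ n, (u x).fst = 0 := fun x hx => by simpa [u, φ] using hn x hx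
  have hu : ∀ x ∈ 𝔟 ^ (n + n), u x = 0 := by
    refine (kills_iff_map_eq_bot u _).2 ?_
    rw [pow_add, Ideal.map_mul, eq_bot_iff, ← Ideal.map_mul, Ideal.map_le_iff_le_comap, Ideal.mul_le]
    intro x hx y hy
    rw [Ideal.mem_comap, Ideal.mem_bot]
    change u (x * y) = 0
    rw [map_mul]
    ext <;> simp [hu1 x hx, hu1 y hy]
  obtain ⟨k, hk⟩ := hAB
  have hA : ∃ m : ℕ, (𝔞 ^ m).map (algebraMap A (TrivSqZeroExt B₀ M)) = ⊥ := by
    refine map_pow_eq_bot_of_map_le (algebraMap A B)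
      ((algebraMap B₀ (TrivSqZeroExt B₀ M)).comp (algebraMap B B₀)) _ ?_ ⟨k, hk⟩ ⟨n, ?_⟩
    · refine RingHom.ext fun a => ?_
      rw [RingHom.comp_apply, RingHom.comp_apply, ← IsScalarTower.algebraMap_apply A B B₀]
      simp [algebraMap_eq_inl']
    · rw [← Ideal.map_map, show (𝔟 ^ n).map (algebraMap B B₀) = ⊥ from ?_, Ideal.map_bot]
      rw [eq_bot_iff, Ideal.map_le_iff_le_comap]
      exact fun x hx => (hn x hx).trans rfl |> Ideal.mem_bot.2
  obtain ⟨v, hv⟩ := h (TrivSqZeroExt B₀ M) J ⟨2, hJ⟩ hA (e.symm.toAlgHom.comp u)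
    ⟨n + n, fun x hx => by rw [AlgHom.comp_apply, hu x hx, map_zero]⟩
  have hPv : ∀ x, P (v x) = u x := fun x =>
    ((congrArg e (AlgHom.congr_fun hv x)).trans (e.apply_symm_apply _) :)
  have hfst : ∀ x, (v x).fst = φ x := fun x => by
    have h1 := congrArg TrivSqZeroExt.fst (hPv x)
    simpa [P, u] using h1
  refine ⟨Derivation.mk'
    { toFun := fun b => (v b).snd
      map_add' := fun x y => by simp
      map_smul' := fun a x => by simp } ?_, fun x => ?_⟩
  · intro x y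
    change (v (x * y)).snd = x • (v y).snd + y • (v x).snd
    rw [map_mul, snd_mul, hfst, hfst, op_smul_eq_smul]
    simp [φ, algebraMap_smul]
  · have h1 := congrArg TrivSqZeroExt.snd (hPv x)
    simpa [P, u] using h1

end

theorem projective_kaehler_mod (hAB : ∃ k : ℕ, (𝔞 ^ k).map (algebraMap A B) ≤ 𝔟)
    (h : IsFormallySmoothAdic A 𝔞 B 𝔟) (𝔄 : Ideal B) (h𝔄 : ∃ n : ℕ, 𝔟 ^ n ≤ 𝔄) :
    Module.Projective (B ⧸ 𝔄) ((B ⧸ 𝔄) ⊗[B] Ω[B⁄A]) := by
  refine Module.Projective.of_lifting_property'' fun f hf => ?_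
  obtain ⟨n, hn⟩ := h𝔄
  let d : Derivation A B ((B ⧸ 𝔄) ⊗[B] Ω[B⁄A]) :=
    (TensorProduct.mk B (B ⧸ 𝔄) Ω[B⁄A] 1).compDer (KaehlerDifferential.D A B)
  obtain ⟨D, hD⟩ := exists_derivation_lift hAB h
    (B₀ := B ⧸ 𝔄) ⟨n, fun x hx => Ideal.Quotient.eq_zero_iff_mem.2 (hn hx)⟩ f hf d
  let l := D.liftKaehlerDifferential
  refine ⟨l.liftBaseChange (B ⧸ 𝔄), ?_⟩
  have key : (f.restrictScalars B) ∘ₗ l = TensorProduct.mk B (B ⧸ 𝔄) Ω[B⁄A] 1 := by
    refine Derivation.liftKaehlerDifferential_unique _ _ (Derivation.ext fun x => ?_)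
    simpa [l, d, Derivation.liftKaehlerDifferential_comp_D] using hD x
  refine TensorProduct.AlgebraTensorModule.ext fun c ω => ?_
  rw [LinearMap.comp_apply, LinearMap.liftBaseChange_tmul, map_smul,
    show f (l ω) = (1 : B ⧸ 𝔄) ⊗ₜ[B] ω from LinearMap.congr_fun key ω, LinearMap.id_apply,
    TensorProduct.smul_tmul', smul_eq_mul, mul_one]

end GrothLib.AdicFS
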