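import Groth.Agent.Lib.AdicFS.Basic
import Mathlib.RingTheory.Flat.FaithfullyFlat.Basic
import Mathlib.RingTheory.TensorProduct.Quotient
import Mathlib.LinearAlgebra.TensorProduct.RightExactness
import Mathlib.Algebra.Module.Projective
import Mathlib.RingTheory.Finiteness.Projective

/-!
# Adic formal smoothness: passage to quotients of the base and formally projective algebras
-/

universe u

open EGA41
open scoped TensorProduct

namespace GrothLib.AdicFS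

variable {A B : Type u} [CommRing A] [CommRing B] [Algebra A B] {𝔞 : Ideal A} {𝔟 : Ideal B}

theorem isFormallySmoothAdic_quotient (h : IsFormallySmoothAdic A 𝔞 B 𝔟) (I : Ideal A)
    (hI : ∃ k, 𝔞 ^ k ≤ I) :
    IsFormallySmoothAdic (A ⧸ I) ⊥ (B ⧸ I.map (algebraMap A B))
      (𝔟.map (Ideal.Quotient.mk (I.map (algebraMap A B)))) := by
  intro C _ _ J hJ _ u hu
  set P := I.map (algebraMap A B)
  letI : Algebra A C := ((algebraMap (A ⧸ I) C).comp (Ideal.Quotient.mk I)).toAlgebra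
  haveI : IsScalarTower A (A ⧸ I) C := IsScalarTower.of_algebraMap_eq fun _ => rfl
  haveI : IsScalarTower A (A ⧸ I) (C ⧸ J) := IsScalarTower.of_algebraMap_eq fun _ => rfl
  have hA : ∃ k : ℕ, (𝔞 ^ k).map (algebraMap A C) = ⊥ := by
    obtain ⟨k, hk⟩ := hI
    refine ⟨k, ?_⟩
    change (𝔞 ^ k).map ((algebraMap (A ⧸ I) C).comp (Ideal.Quotient.mk I)) = ⊥
    rw [← Ideal.map_map, eq_bot_iff]
    refine (Ideal.map_mono (Ideal.map_mono hk)).trans ?_
    rw [Ideal.map_quotient_self, Ideal.map_bot]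
  obtain ⟨m, hm⟩ := hu
  obtain ⟨v, hv⟩ := h C J hJ hA ((u.restrictScalars A).comp (Ideal.Quotient.mkₐ A P)) ⟨m, fun x hx =>
    hm _ (by rw [← Ideal.map_pow]; exact Ideal.mem_map_of_mem _ hx)⟩
  have hP : ∀ x ∈ P, v x = 0 := (kills_iff_map_eq_bot v P).2 <| by
    rw [Ideal.map_map, eq_bot_iff, Ideal.map_le_iff_le_comap]
    intro a ha
    rw [Ideal.mem_comap, RingHom.comp_apply, Ideal.mem_bot]
    refine (v.commutes a).trans ?_
    change algebraMap (A ⧸ I) C (Ideal.Quotient.mk I a) = 0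
    rw [Ideal.Quotient.eq_zero_iff_mem.2 ha, map_zero]
  let w : (B ⧸ P) →ₐ[A ⧸ I] C :=
    { Ideal.Quotient.lift P v.toRingHom hP with
      commutes' := fun a => by
        obtain ⟨a, rfl⟩ := Ideal.Quotient.mk_surjective a
        exact v.commutes a }
  refine ⟨w, AlgHom.ext fun x => ?_⟩
  obtain ⟨x, rfl⟩ := Ideal.Quotient.mk_surjective x
  exact AlgHom.congr_fun hv x

theorem isFormallySmoothAdic_of_quotient
    (h : ∀ n : ℕ, IsFormallySmoothAdic (A ⧸ 𝔞 ^ n) ⊥ (B ⧸ (𝔞 ^ n).map (algebraMap A B))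
      (𝔟.map (Ideal.Quotient.mk ((𝔞 ^ n).map (algebraMap A B))))) :
    IsFormallySmoothAdic A 𝔞 B 𝔟 := by
  intro C _ _ J hJ hA u hu
  obtain ⟨n, hn⟩ := hA
  set P := (𝔞 ^ n).map (algebraMap A B)
  letI : Algebra (A ⧸ 𝔞 ^ n) C := (Ideal.Quotient.lift (𝔞 ^ n) (algebraMap A C) fun a ha => by
    rw [← Ideal.mem_bot, ← hn]; exact Ideal.mem_map_of_mem _ ha).toAlgebra
  have hP : ∀ x ∈ P, u x = 0 := (kills_iff_map_eq_bot u P).2 <| by
    rw [Ideal.map_map, eq_bot_iff, Ideal.map_le_iff_le_comap]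
    intro a ha
    rw [Ideal.mem_comap, RingHom.comp_apply, Ideal.mem_bot]
    refine (u.commutes a).trans ?_
    change Ideal.Quotient.mk J (algebraMap A C a) = 0
    rw [show algebraMap A C a = 0 by rw [← Ideal.mem_bot, ← hn]; exact Ideal.mem_map_of_mem _ ha,
      map_zero]
  let u' : (B ⧸ P) →ₐ[A ⧸ 𝔞 ^ n] C ⧸ J :=
    { Ideal.Quotient.lift P u.toRingHom hP with
      commutes' := fun a => by
        obtain ⟨a, rfl⟩ := Ideal.Quotient.mk_surjective a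
        exact u.commutes a }
  obtain ⟨m, hm⟩ := hu
  obtain ⟨v, hv⟩ := h n C J hJ ⟨1, by rw [pow_one, Ideal.map_bot]⟩ u' ⟨m, by
    rw [← Ideal.map_pow]
    intro x hx
    obtain ⟨y, hy, rfl⟩ := (Ideal.mem_map_iff_of_surjective _ Ideal.Quotient.mk_surjective).1 hx
    exact hm y hy⟩
  refine ⟨{ v.toRingHom.comp (Ideal.Quotient.mk P) with commutes' := fun a => ?_ },
    AlgHom.ext fun x => (AlgHom.congr_fun hv (Ideal.Quotient.mk P x) :)⟩
  exact v.commutes (Ideal.Quotient.mk (𝔞 ^ n) a)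

/-- An extension of algebras whose kernel squares to zero and meets `𝔞E` trivially has a section
over any continuous map, when the reduction modulo `𝔞` is formally smooth. -/
theorem exists_section
    (h : IsFormallySmoothAdic (A ⧸ 𝔞) ⊥ (B ⧸ 𝔞.map (algebraMap A B))
      (𝔟.map (Ideal.Quotient.mk (𝔞.map (algebraMap A B)))))
    {E B' : Type u} [CommRing E] [Algebra A E] [CommRing B'] [Algebra A B'] (q : E →ₐ[A] B')
    (hqs : Function.Surjective q)
    (hker : ∀ x ∈ RingHom.ker q.toRingHom, ∀ y ∈ RingHom.ker q.toRingHom, x * y = 0)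
    (hinj : 𝔞.map (algebraMap A E) ⊓ RingHom.ker q.toRingHom = ⊥)
    (π : B →ₐ[A] B') (hπ : ∃ k : ℕ, ∀ x ∈ 𝔟 ^ k, π x = 0) :
    ∃ g : B →ₐ[A] E, q.comp g = π := by
  set S := 𝔞.map (algebraMap A E) with hS
  let J₀ : Ideal (E ⧸ S) := (RingHom.ker q.toRingHom).map (Ideal.Quotient.mk S)
  have hJ₀ : J₀ * J₀ = ⊥ := by
    rw [eq_bot_iff, Ideal.mul_le]
    intro x' hx' y' hy'
    obtain ⟨x, hx, rfl⟩ := (Ideal.mem_map_iff_of_surjective _ Ideal.Quotient.mk_surjective).1 hx'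
    obtain ⟨y, hy, rfl⟩ := (Ideal.mem_map_iff_of_surjective _ Ideal.Quotient.mk_surjective).1 hy'
    rw [← map_mul, hker x hx y hy, map_zero]
    exact Ideal.zero_mem _
  let e' := Ideal.quotientKerAlgEquivOfSurjective hqs
  let g₂ : B →ₐ[A] E ⧸ RingHom.ker q.toRingHom := e'.symm.toAlgHom.comp π
  let ψ : B →ₐ[A] (E ⧸ S) ⧸ J₀ :=
    (Ideal.quotientMapₐ J₀ (Ideal.Quotient.mkₐ A S) Ideal.le_comap_map).comp g₂
  have hψ : ∀ x ∈ 𝔞.map (algebraMap A B), ψ x = 0 := by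
    have hle : 𝔞.map (algebraMap A B) ≤ RingHom.ker ψ.toRingHom := by
      rw [Ideal.map_le_iff_le_comap]
      intro a ha
      rw [Ideal.mem_comap, RingHom.mem_ker]
      refine (ψ.commutes a).trans ?_
      change Ideal.Quotient.mk J₀ (Ideal.Quotient.mk S (algebraMap A E a)) = 0
      rw [Ideal.Quotient.eq_zero_iff_mem.2 (Ideal.mem_map_of_mem _ ha), map_zero]
    exact fun x hx => RingHom.mem_ker.1 (hle hx)
  let u₀ : (B ⧸ 𝔞.map (algebraMap A B)) →ₐ[A ⧸ 𝔞] (E ⧸ S) ⧸ J₀ :=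
    { Ideal.Quotient.lift _ ψ.toRingHom hψ with
      commutes' := fun a => by
        obtain ⟨a, rfl⟩ := Ideal.Quotient.mk_surjective a
        exact ψ.commutes a }
  obtain ⟨k, hk⟩ := hπ
  obtain ⟨v₀, hv₀⟩ := h (E ⧸ S) J₀ ⟨2, (pow_two J₀).trans hJ₀⟩
    ⟨1, by rw [pow_one, Ideal.map_bot]⟩ u₀ ⟨k, by
      rw [← Ideal.map_pow]
      intro x hx
      obtain ⟨y, hy, rfl⟩ := (Ideal.mem_map_iff_of_surjective _ Ideal.Quotient.mk_surjective).1 hx
      change ψ y = 0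
      change Ideal.quotientMapₐ J₀ (Ideal.Quotient.mkₐ A S) Ideal.le_comap_map (e'.symm (π y)) = 0
      rw [hk y hy, map_zero]
      exact map_zero _⟩
  let g₁ : B →ₐ[A] E ⧸ S :=
    { v₀.toRingHom.comp (Ideal.Quotient.mk _) with
      commutes' := fun a => v₀.commutes (Ideal.Quotient.mk 𝔞 a) }
  obtain ⟨g, -, hg⟩ := exists_combine S (RingHom.ker q.toRingHom) g₁ g₂ (AlgHom.ext fun x => by
    obtain ⟨e₁, he₁⟩ := Ideal.Quotient.mk_surjective (g₁ x)
    obtain ⟨e₂, he₂⟩ := Ideal.Quotient.mk_surjective (g₂ x)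
    have h1 : Ideal.Quotient.mk J₀ (g₁ x) = ψ x := AlgHom.congr_fun hv₀ (Ideal.Quotient.mk _ x)
    rw [← he₁, show ψ x = Ideal.Quotient.mk J₀ (Ideal.Quotient.mk S e₂) by
      simp only [ψ, AlgHom.comp_apply, ← he₂]; rfl] at h1
    rw [AlgHom.comp_apply, AlgHom.comp_apply, ← he₁, ← he₂]
    refine Ideal.Quotient.eq.2 ?_
    have h2 := Ideal.Quotient.eq.1 h1
    rw [← map_sub, ← Ideal.mem_comap,
      Ideal.comap_map_of_surjective (Ideal.Quotient.mk S) Ideal.Quotient.mk_surjective,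
      ← RingHom.ker_eq_comap_bot, Ideal.mk_ker, sup_comm] at h2
    exact h2)
  let e₀ : (E ⧸ (S ⊓ RingHom.ker q.toRingHom)) ≃ₐ[A] E :=
    (Ideal.quotientEquivAlgOfEq A hinj).trans (AlgEquiv.quotientBot A E)
  refine ⟨e₀.toAlgHom.comp g, AlgHom.ext fun x => ?_⟩
  obtain ⟨e, he⟩ := Ideal.Quotient.mk_surjective (g x)
  have he' : e₀ (g x) = e := by rw [← he]; rfl
  have h1 := AlgHom.congr_fun hg x
  rw [AlgHom.comp_apply, ← he] at h1
  change q (e₀ (g x)) = π x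
  rw [he']
  exact (congrArg e' h1).trans (e'.apply_symm_apply (π x))

/-- The main step for formally projective algebras: lifting along a square-zero ideal killed by
`𝔞`. -/
theorem exists_lift_of_killed
    (hproj : ∀ (n : ℕ) (P Q : Type u) [AddCommGroup P] [Module A P] [AddCommGroup Q] [Module A Q],
      (∀ a ∈ 𝔞 ^ n, ∀ y : P, a • y = 0) → (∀ a ∈ 𝔞 ^ n, ∀ y : Q, a • y = 0) →
      ∀ f : P →ₗ[A] Q, Function.Surjective f → ∀ v : B →ₗ[A] Q, (∃ m : ℕ, ∀ x ∈ 𝔟 ^ m, v x = 0) →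
        ∃ w : B →ₗ[A] P, (∃ m : ℕ, ∀ x ∈ 𝔟 ^ m, w x = 0) ∧ f ∘ₗ w = v)
    (h : IsFormallySmoothAdic (A ⧸ 𝔞) ⊥ (B ⧸ 𝔞.map (algebraMap A B))
      (𝔟.map (Ideal.Quotient.mk (𝔞.map (algebraMap A B)))))
    {C : Type u} [CommRing C] [Algebra A C] (J : Ideal C) (hJ : J ^ 2 = ⊥)
    (hkill : ∀ a ∈ 𝔞, ∀ j ∈ J, algebraMap A C a * j = 0)
    (hA : ∃ k : ℕ, (𝔞 ^ k).map (algebraMap A C) = ⊥)
    (u : B →ₐ[A] C ⧸ J) (hu : ∃ k : ℕ, ∀ x ∈ 𝔟 ^ k, u x = 0) :
    ∃ v : B →ₐ[A] C, (Ideal.Quotient.mkₐ A J).comp v = u := by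
  obtain ⟨n, hn⟩ := hA
  have hn' : ∀ a ∈ 𝔞 ^ n, algebraMap A C a = 0 := fun a ha => by
    rw [← Ideal.mem_bot, ← hn]; exact Ideal.mem_map_of_mem _ ha
  obtain ⟨w, ⟨m₁, hw⟩, hwu⟩ := hproj n C (C ⧸ J)
    (fun a ha y => by rw [Algebra.smul_def, hn' a ha, zero_mul])
    (fun a ha y => by
      obtain ⟨y, rfl⟩ := Ideal.Quotient.mk_surjective y
      change Ideal.Quotient.mk J (a • y) = 0
      rw [Algebra.smul_def, hn' a ha, zero_mul, map_zero])
    (Ideal.Quotient.mkₐ A J).toLinearMap (Ideal.Quotient.mkₐ_surjective A J) u.toLinearMap hu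
  obtain ⟨m₂, hu⟩ := hu
  let I : Ideal B := 𝔟 ^ (m₁ + m₂)
  have hwI : ∀ x ∈ I, w x = 0 := fun x hx => hw x (Ideal.pow_le_pow_right le_self_add hx)
  have huI : ∀ x ∈ I, u x = 0 := fun x hx => hu x (Ideal.pow_le_pow_right le_add_self hx)
  have hwu' : ∀ x, Ideal.Quotient.mk J (w x) = u x := fun x => LinearMap.congr_fun hwu x
  let ū : B ⧸ I →ₐ[A] C ⧸ J := Ideal.Quotient.liftₐ I u huI
  let E : Subalgebra A (C × (B ⧸ I)) :=
    AlgHom.equalizer ((Ideal.Quotient.mkₐ A J).comp (AlgHom.fst A C (B ⧸ I)))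
      (ū.comp (AlgHom.snd A C (B ⧸ I)))
  let q : E →ₐ[A] B ⧸ I := (AlgHom.snd A C (B ⧸ I)).comp E.val
  have hs : ∀ x : B, (w x, Ideal.Quotient.mk I x) ∈ E := fun x => hwu' x
  let S : Ideal E := 𝔞.map (algebraMap A E)
  have hq : ∀ e : E, q e = 0 → e.1.1 ∈ J := fun e he => by
    have h1 : Ideal.Quotient.mk J e.1.1 = ū e.1.2 := e.2
    rw [show e.1.2 = 0 from he, map_zero] at h1
    exact Ideal.Quotient.eq_zero_iff_mem.1 h1
  have hker : ∀ x ∈ RingHom.ker q.toRingHom, ∀ y ∈ RingHom.ker q.toRingHom, x * y = 0 := by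
    intro x hx y hy
    refine Subtype.ext (Prod.ext ?_ ?_)
    · have h1 : x.1.1 * y.1.1 ∈ J ^ 2 := by
        rw [pow_two]
        exact Ideal.mul_mem_mul (hq x hx) (hq y hy)
      rwa [hJ, Ideal.mem_bot] at h1
    · change x.1.2 * y.1.2 = 0
      rw [show x.1.2 = 0 from hx, zero_mul]
  -- the ideal `S` meets the kernel trivially
  have hinj : S ⊓ RingHom.ker q.toRingHom = ⊥ := by
    rw [eq_bot_iff]
    rintro e ⟨he, he0⟩
    have he' : e ∈ 𝔞 • (⊤ : Submodule A E) := by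
      rw [Ideal.smul_top_eq_map]; exact he
    obtain ⟨z, hz⟩ : ∃ z : B, e.1 = (w z, Ideal.Quotient.mk I z) := by
      refine Submodule.smul_induction_on (p := fun e : E => ∃ z : B, e.1 = (w z, Ideal.Quotient.mk I z))
        he' (fun a ha x _ => ?_) (fun x y hx hy => ?_)
      · obtain ⟨b, hb⟩ := Ideal.Quotient.mk_surjective x.1.2
        refine ⟨a • b, Prod.ext ?_ ?_⟩
        · change a • x.1.1 = w (a • b)
          have h1 : x.1.1 - w b ∈ J := Ideal.Quotient.eq.1 (by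
            have h2 : Ideal.Quotient.mk J x.1.1 = ū x.1.2 := x.2
            rw [h2, ← hb, hwu']; rfl)
          have h2 := hkill a ha _ h1
          rw [mul_sub, sub_eq_zero] at h2
          rw [map_smul, Algebra.smul_def, Algebra.smul_def, h2]
        · change a • x.1.2 = _
          rw [← hb]; rfl
      · obtain ⟨z, hz⟩ := hx
        obtain ⟨z', hz'⟩ := hy
        refine ⟨z + z', ?_⟩
        rw [map_add, map_add, ← Prod.mk_add_mk, ← hz, ← hz']
        rfl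
    have hzI : z ∈ I := Ideal.Quotient.eq_zero_iff_mem.1
      ((congrArg Prod.snd hz).symm.trans (RingHom.mem_ker.1 he0))
    refine Ideal.mem_bot.2 (Subtype.ext (hz.trans (Prod.ext (hwI z hzI) ?_)))
    exact Ideal.Quotient.eq_zero_iff_mem.2 hzI
  have hqs : Function.Surjective q := fun x => by
    obtain ⟨x, rfl⟩ := Ideal.Quotient.mk_surjective x
    exact ⟨⟨_, hs x⟩, rfl⟩
  obtain ⟨g, hg⟩ := exists_section h q hqs hker hinj (Ideal.Quotient.mkₐ A I)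
    ⟨m₁ + m₂, fun x hx => Ideal.Quotient.eq_zero_iff_mem.2 hx⟩
  refine ⟨((AlgHom.fst A C (B ⧸ I)).comp E.val).comp g, AlgHom.ext fun x => ?_⟩
  have hmem : Ideal.Quotient.mk J (g x).1.1 = ū (g x).1.2 := (g x).2
  change Ideal.Quotient.mk J (g x).1.1 = u x
  rw [hmem, show (g x).1.2 = Ideal.Quotient.mk I x from AlgHom.congr_fun hg x]
  rfl

/-- Formally projective algebras are formally smooth as soon as their reduction is. -/
theorem isFormallySmoothAdic_of_formallyProjective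
    (hproj : ∀ (n : ℕ) (P Q : Type u) [AddCommGroup P] [Module A P] [AddCommGroup Q] [Module A Q],
      (∀ a ∈ 𝔞 ^ n, ∀ y : P, a • y = 0) → (∀ a ∈ 𝔞 ^ n, ∀ y : Q, a • y = 0) →
      ∀ f : P →ₗ[A] Q, Function.Surjective f → ∀ v : B →ₗ[A] Q, (∃ m : ℕ, ∀ x ∈ 𝔟 ^ m, v x = 0) →
        ∃ w : B →ₗ[A] P, (∃ m : ℕ, ∀ x ∈ 𝔟 ^ m, w x = 0) ∧ f ∘ₗ w = v)
    (h : IsFormallySmoothAdic (A ⧸ 𝔞) ⊥ (B ⧸ 𝔞.map (algebraMap A B))
      (𝔟.map (Ideal.Quotient.mk (𝔞.map (algebraMap A B))))) :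
    IsFormallySmoothAdic A 𝔞 B 𝔟 := by
  refine isFormallySmoothAdic_of_sqLifts ?_
  suffices key : ∀ (n : ℕ) (C : Type u) [CommRing C] [Algebra A C] (J : Ideal C), J ^ 2 = ⊥ →
      (∃ k : ℕ, (𝔞 ^ k).map (algebraMap A C) = ⊥) → (𝔞 ^ n).map (algebraMap A C) * J = ⊥ →
      ∀ u : B →ₐ[A] C ⧸ J, (∃ k : ℕ, ∀ x ∈ 𝔟 ^ k, u x = 0) →
        ∃ v : B →ₐ[A] C, (Ideal.Quotient.mkₐ A J).comp v = u by
    intro C _ _ J hJ hA
    obtain ⟨k, hk⟩ := hA
    exact key k C J hJ ⟨k, hk⟩ (by rw [hk, Ideal.bot_mul])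
  intro n
  induction n with
  | zero =>
      intro C _ _ J _ _ hnJ u _
      rw [pow_zero, Ideal.one_eq_top, Ideal.map_top, Ideal.top_mul] at hnJ
      let e : (C ⧸ J) ≃ₐ[A] C := (Ideal.quotientEquivAlgOfEq A hnJ).trans (AlgEquiv.quotientBot A C)
      refine ⟨e.toAlgHom.comp u, AlgHom.ext fun x => ?_⟩
      obtain ⟨c, hc⟩ := Ideal.Quotient.mk_surjective (u x)
      change Ideal.Quotient.mk J (e (u x)) = u x
      rw [← hc]
      rfl
  | succ n ih =>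
      intro C _ _ J hJ hA hnJ u hu
      let K : Ideal C := (𝔞 ^ n).map (algebraMap A C) * J
      have hKJ : K ≤ J := Ideal.mul_le_right
      let J' : Ideal (C ⧸ K) := J.map (Ideal.Quotient.mk K)
      have hJ' : J' ^ 2 = ⊥ := by
        rw [← Ideal.map_pow, hJ, Ideal.map_bot]
      have hA' : ∃ k : ℕ, (𝔞 ^ k).map (algebraMap A (C ⧸ K)) = ⊥ := by
        obtain ⟨k, hk⟩ := hA
        exact ⟨k, map_mk_eq_bot (algebraMap A C) K hk⟩
      have hn' : (𝔞 ^ n).map (algebraMap A (C ⧸ K)) * J' = ⊥ := by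
        change (𝔞 ^ n).map ((Ideal.Quotient.mk K).comp (algebraMap A C)) * _ = ⊥
        rw [← Ideal.map_map, ← Ideal.map_mul, Ideal.map_quotient_self]
      let e : ((C ⧸ K) ⧸ J') ≃ₐ[A] C ⧸ J :=
        { DoubleQuot.quotQuotEquivQuotOfLE hKJ with commutes' := fun _ => rfl }
      obtain ⟨k, hk⟩ := hu
      obtain ⟨w, hw⟩ := ih (C ⧸ K) J' hJ' hA' hn' (e.symm.toAlgHom.comp u)
        ⟨k, fun x hx => by rw [AlgHom.comp_apply, hk x hx, map_zero]⟩
      have hwk : ∃ k : ℕ, ∀ x ∈ 𝔟 ^ k, w x = 0 := exists_pow_of_lift ⟨2, hJ'⟩ w ⟨k, fun x hx => by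
        change (Ideal.Quotient.mkₐ A J') (w x) = 0
        rw [← AlgHom.comp_apply, hw, AlgHom.comp_apply, hk x hx, map_zero]⟩
      have hK2 : K ^ 2 = ⊥ := le_bot_iff.1 ((Ideal.pow_right_mono hKJ 2).trans hJ.le)
      obtain ⟨v, hv⟩ := exists_lift_of_killed hproj h K hK2 (fun a ha j hj => by
        rw [← Ideal.mem_bot, ← hnJ, pow_succ', Ideal.map_mul, mul_assoc]
        exact Ideal.mul_mem_mul (Ideal.mem_map_of_mem _ ha) hj) hA w hwk
      refine ⟨v, AlgHom.ext fun x => ?_⟩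
      have h1 := AlgHom.congr_fun hw x
      rw [AlgHom.comp_apply, ← AlgHom.congr_fun hv x] at h1
      exact (congrArg e h1).trans (e.apply_symm_apply (u x))

theorem exists_of_retraction {C T : Type u} [CommRing C] [Algebra A C] [CommRing T] [Algebra A T]
    (incl : C →ₐ[A] T) (r : T →ₗ[A] C) (hr1 : r 1 = 1) (hrC : ∀ c z, r (incl c * z) = c * r z)
    (J : Ideal C) (hJ : J ^ 2 = ⊥) (f : B →ₐ[A] T) (u : B →ₐ[A] C ⧸ J)
    (hf : ∀ b c, Ideal.Quotient.mk J c = u b → f b - incl c ∈ J.map incl) :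
    ∃ v : B →ₐ[A] C, (Ideal.Quotient.mkₐ A J).comp v = u := by
  have hri : ∀ c, r (incl c) = c := fun c => by rw [← mul_one (incl c), hrC, hr1, mul_one]
  have hrJ : ∀ z ∈ J.map incl, r z ∈ J := by
    intro z hz
    suffices ∀ w, r (w * z) ∈ J by simpa using this 1
    induction hz using Submodule.span_induction with
    | mem x hx =>
        obtain ⟨j, hj, rfl⟩ := hx
        intro w
        rw [mul_comm, hrC]
        exact J.mul_mem_right _ hj
    | zero => intro w; simp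
    | add x y _ _ hx hy => intro w; rw [mul_add, map_add]; exact J.add_mem (hx w) (hy w)
    | smul c x _ hx => intro w; rw [smul_eq_mul, ← mul_assoc]; exact hx _
  have hK2 : ∀ x ∈ J.map incl, ∀ y ∈ J.map incl, x * y = 0 := fun x hx y hy => by
    have h2 := Ideal.mul_mem_mul hx hy
    rw [← Ideal.map_mul, ← pow_two, hJ, Ideal.map_bot] at h2
    exact Ideal.mem_bot.1 h2
  have hred : ∀ b, Ideal.Quotient.mk J (r (f b)) = u b := by
    intro b
    obtain ⟨c, hc⟩ := Ideal.Quotient.mk_surjective (u b)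
    have h2 := hrJ _ (hf b c hc)
    rw [map_sub, hri] at h2
    rw [Ideal.Quotient.eq.2 h2, hc]
  refine ⟨AlgHom.ofLinearMap (r ∘ₗ f.toLinearMap) ?_ fun x y => ?_, AlgHom.ext hred⟩
  · change r (f 1) = 1
    rw [map_one, hr1]
  · change r (f (x * y)) = r (f x) * r (f y)
    obtain ⟨cx, hcx⟩ := Ideal.Quotient.mk_surjective (u x)
    obtain ⟨cy, hcy⟩ := Ideal.Quotient.mk_surjective (u y)
    have hjj := hK2 _ (hf x cx hcx) _ (hf y cy hcy)
    have h1 : f (x * y) = incl cx * f y + incl cy * f x - incl (cx * cy) := by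
      rw [map_mul, map_mul]
      linear_combination hjj
    have hx2 := hrJ _ (hf x cx hcx)
    have hy2 := hrJ _ (hf y cy hcy)
    rw [map_sub, hri] at hx2 hy2
    have hzero : (r (f x) - cx) * (r (f y) - cy) = 0 := by
      rw [← Ideal.mem_bot, ← hJ, pow_two]; exact Ideal.mul_mem_mul hx2 hy2
    rw [h1, map_sub, map_add, hrC, hrC, hri]
    linear_combination -hzero

theorem map_pow_sup_eq_bot {S T : Type*} [CommRing S] [CommRing T] (f : S →+* T) {P Q R : Ideal S}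
    {k₀ k₁ k₂ : ℕ} (hR : R ^ k₀ ≤ P ⊔ Q) (hP : (P ^ k₁).map f = ⊥) (hQ : (Q ^ k₂).map f = ⊥) :
    (R ^ (k₀ * (k₁ + k₂))).map f = ⊥ := by
  rw [pow_mul, eq_bot_iff]
  refine (Ideal.map_mono ((Ideal.pow_right_mono hR _).trans
    Ideal.sup_pow_add_le_pow_sup_pow)).trans ?_
  rw [Ideal.map_sup, hP, hQ, sup_bot_eq]

end GrothLib.AdicFS
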