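import Groth.Agent.Lib.AdicFS.Quotient

/-!
# Descent of adic formal smoothness along a retraction
-/

universe u

open EGA41
open scoped TensorProduct

namespace GrothLib.AdicFS

variable {A B : Type u} [CommRing A] [CommRing B] [Algebra A B] {𝔞 : Ideal A} {𝔟 : Ideal B}

/-- A faithfully flat projective algebra contains the base ring as a direct summand. -/
theorem exists_retraction (A A' : Type u) [CommRing A] [CommRing A'] [Algebra A A']
    [Module.FaithfullyFlat A A'] [Module.Projective A A'] : ∃ ρ : A' →ₗ[A] A, ρ 1 = 1 := by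
  obtain ⟨s, hs⟩ := (Module.projective_def (R := A) (P := A')).1 inferInstance
  let I : Ideal A := LinearMap.range (LinearMap.applyₗ (R := A) (M₂ := A) (1 : A'))
  by_cases hI : I = ⊤
  · obtain ⟨ρ, hρ⟩ := LinearMap.mem_range.1 ((Ideal.eq_top_iff_one I).1 hI)
    exact ⟨ρ, hρ⟩
  obtain ⟨m, hm, hIm⟩ := Ideal.exists_le_maximal I hI
  refine absurd ?_ (Module.FaithfullyFlat.submodule_ne_top (R := A) (M := A') hm)
  have h1 : (1 : A') ∈ m • (⊤ : Submodule A A') := by
    rw [← hs 1, Finsupp.linearCombination_apply]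
    exact Submodule.sum_mem _ fun p _ => Submodule.smul_mem_smul
      (hIm ⟨Finsupp.lapply p ∘ₗ s, rfl⟩) Submodule.mem_top
  rw [Ideal.smul_top_eq_map, Submodule.restrictScalars_mem] at h1
  rw [Ideal.smul_top_eq_map, Ideal.eq_top_of_isUnit_mem _ h1 isUnit_one]
  rfl

/-- Descent of formal smoothness along a faithfully flat projective algebra of finite type. -/
theorem isFormallySmoothAdic_of_retraction {A' : Type u} [CommRing A'] [Algebra A A']
    (ρ : A' →ₗ[A] A) (hρ : ρ 1 = 1) {𝔮 : Ideal (A' ⊗[A] B)}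
    (h𝔮 : ∃ k, 𝔮 ^ k ≤ (𝔞.map (algebraMap A A')).map (algebraMap A' (A' ⊗[A] B)) ⊔
        𝔟.map (Algebra.TensorProduct.includeRight : B →ₐ[A] A' ⊗[A] B).toRingHom)
    (h : IsFormallySmoothAdic A' (𝔞.map (algebraMap A A')) (A' ⊗[A] B) 𝔮) :
    IsFormallySmoothAdic A 𝔞 B 𝔟 := by
  refine isFormallySmoothAdic_of_sqLifts fun C _ _ J hJ hA u hu => ?_
  obtain ⟨k₁, hk₁⟩ := hA
  obtain ⟨k₂, hk₂⟩ := hu
  obtain ⟨k₀, hk₀⟩ := h𝔮
  let φ : A' ⊗[A] C →ₐ[A'] A' ⊗[A] (C ⧸ J) :=
    Algebra.TensorProduct.map (AlgHom.id A' A') (Ideal.Quotient.mkₐ A J)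
  let incl : C →ₐ[A] A' ⊗[A] C := Algebra.TensorProduct.includeRight
  let i : B →ₐ[A] A' ⊗[A] B := Algebra.TensorProduct.includeRight
  have hsurj : Function.Surjective φ := fun z => by
    induction z with
    | zero => exact ⟨0, map_zero φ⟩
    | tmul a c =>
        obtain ⟨c, rfl⟩ := Ideal.Quotient.mk_surjective c
        exact ⟨a ⊗ₜ[A] c, by simp [φ]⟩
    | add x y hx hy =>
        obtain ⟨x', rfl⟩ := hx
        obtain ⟨y', rfl⟩ := hy
        exact ⟨x' + y', map_add φ x' y'⟩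
  have hker : RingHom.ker φ = J.map incl := by
    have h1 := Algebra.TensorProduct.lTensor_ker (A := A') (Ideal.Quotient.mkₐ A J)
      (Ideal.Quotient.mkₐ_surjective A J)
    have h2 : RingHom.ker (Ideal.Quotient.mkₐ A J) = J := Ideal.Quotient.mkₐ_ker A J
    rw [h2] at h1
    exact h1
  have hK2 : (RingHom.ker φ) ^ 2 = ⊥ := by rw [hker, ← Ideal.map_pow, hJ, Ideal.map_bot]
  let e := Ideal.quotientKerAlgEquivOfSurjective hsurj
  let u' : A' ⊗[A] B →ₐ[A'] A' ⊗[A] (C ⧸ J) := Algebra.TensorProduct.map (AlgHom.id A' A') u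
  have hA' : (((𝔞.map (algebraMap A A')) ^ k₁)).map (algebraMap A' (A' ⊗[A] C)) = ⊥ := by
    rw [← Ideal.map_pow, Ideal.map_map, ← IsScalarTower.algebraMap_eq,
      ← AlgHom.comp_algebraMap incl, ← Ideal.map_map, hk₁, Ideal.map_bot]
  have hu' : (𝔮 ^ (k₀ * (k₁ + k₂))).map u'.toRingHom = ⊥ := by
    refine map_pow_sup_eq_bot _ hk₀ ?_ ?_
    · rw [← Ideal.map_pow, ← Ideal.map_pow, Ideal.map_map, Ideal.map_map, eq_bot_iff,
        Ideal.map_le_iff_le_comap]
      intro a ha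
      rw [Ideal.mem_comap, RingHom.comp_apply, RingHom.comp_apply, Ideal.mem_bot]
      refine (u'.commutes _).trans ?_
      change algebraMap A A' a ⊗ₜ[A] (1 : C ⧸ J) = 0
      have h0 : algebraMap A C a = 0 := by
        rw [← Ideal.mem_bot, ← hk₁]; exact Ideal.mem_map_of_mem _ ha
      rw [Algebra.algebraMap_eq_smul_one, TensorProduct.smul_tmul, ← Algebra.algebraMap_eq_smul_one,
        IsScalarTower.algebraMap_apply A C (C ⧸ J), h0, map_zero, TensorProduct.tmul_zero]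
    · rw [← Ideal.map_pow, Ideal.map_map, eq_bot_iff, Ideal.map_le_iff_le_comap]
      intro x hx
      rw [Ideal.mem_comap, RingHom.comp_apply, Ideal.mem_bot]
      change (1 : A') ⊗ₜ[A] u x = 0
      rw [hk₂ x hx, TensorProduct.tmul_zero]
  obtain ⟨v', hv'⟩ := h (A' ⊗[A] C) (RingHom.ker φ) ⟨2, hK2⟩ ⟨k₁, hA'⟩
    (e.symm.toAlgHom.comp u') ⟨_, fun x hx => by
      rw [AlgHom.comp_apply, (kills_iff_map_eq_bot u' _).2 hu' x hx, map_zero]⟩
  have hφv : ∀ x, φ (v' x) = u' x := fun x =>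
    ((congrArg e (AlgHom.congr_fun hv' x)).trans (e.apply_symm_apply _) :)
  let r : A' ⊗[A] C →ₗ[A] C := (TensorProduct.lid A C).toLinearMap ∘ₗ LinearMap.rTensor C ρ
  have hr : ∀ a c, r (a ⊗ₜ[A] c) = ρ a • c := fun a c => by simp [r]
  refine exists_of_retraction incl r ?_ ?_ J hJ ((v'.restrictScalars A).comp i) u fun b c hc => ?_
  · rw [Algebra.TensorProduct.one_def, hr, hρ, one_smul]
  · intro c z
    induction z with
    | zero => rw [mul_zero, map_zero, mul_zero]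
    | add x y hx hy => rw [mul_add, map_add, map_add, mul_add, hx, hy]
    | tmul a d =>
        change r ((1 : A') ⊗ₜ[A] c * a ⊗ₜ[A] d) = c * r (a ⊗ₜ[A] d)
        rw [Algebra.TensorProduct.tmul_mul_tmul, hr, hr, one_mul, mul_smul_comm]
  · rw [← hker, RingHom.mem_ker, map_sub]
    change φ (v' (i b)) - φ (incl c) = 0
    rw [hφv]
    change (1 : A') ⊗ₜ[A] u b - (1 : A') ⊗ₜ[A] Ideal.Quotient.mk J c = 0
    rw [hc, sub_self]

end GrothLib.AdicFS
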