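import Groth.Agent.Lib.AdicFS.Basic
import Groth.Agent.Lib.SepField.Smooth
import Mathlib.RingTheory.Kaehler.Basic
import Mathlib.RingTheory.Derivation.ToSquareZero
import Mathlib.RingTheory.Unramified.Basic
import Mathlib.Algebra.TrivSqZeroExt.Basic
import Mathlib.RingTheory.AdicCompletion.Basic
import Mathlib.RingTheory.TensorProduct.Quotient

/-!
# Adically formally unramified algebras
-/

universe u

open TrivSqZeroExt
open scoped TensorProduct

namespace GrothLib.AdicFS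

variable {A B : Type u} [CommRing A] [CommRing B] [Algebra A B] {𝔞 : Ideal A} {𝔟 : Ideal B}

theorem pow_smul_top_eq_top {M : Type u} [AddCommGroup M] [Module B M]
    (h : 𝔟 • (⊤ : Submodule B M) = ⊤) (m : ℕ) : 𝔟 ^ m • (⊤ : Submodule B M) = ⊤ := by
  induction m with
  | zero => simp
  | succ m ih => rw [pow_succ, Submodule.mul_smul, h, ih]

theorem lift_unique_of_kaehler (hΩ : 𝔟 • (⊤ : Submodule B Ω[B⁄A]) = ⊤) {E : Type u} [CommRing E]
    [Algebra A E] (J : Ideal E) (hJ : IsNilpotent J) (v₁ v₂ : B →ₐ[A] E)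
    (h₁ : ∃ m : ℕ, ∀ x ∈ 𝔟 ^ m, v₁ x = 0)
    (h : ∀ b : B, Ideal.Quotient.mk J (v₁ b) = Ideal.Quotient.mk J (v₂ b)) : v₁ = v₂ := by
  obtain ⟨n, hn⟩ := hJ
  obtain ⟨m, hm⟩ := h₁
  suffices key : ∀ k : ℕ, ∀ b, v₁ b - v₂ b ∈ J ^ (k + 1) by
    refine AlgHom.ext fun b => sub_eq_zero.1 ?_
    rw [← Ideal.mem_bot, ← Ideal.zero_eq_bot, ← hn]
    exact Ideal.pow_le_pow_right n.le_succ (key n b)
  intro k
  induction k with
  | zero => exact fun b => by rw [zero_add, pow_one]; exact Ideal.Quotient.eq.1 (h b)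
  | succ k ih =>
    let E' := E ⧸ J ^ (k + 2)
    let I : Ideal E' := (J ^ (k + 1)).map (Ideal.Quotient.mk _)
    have hI : I ^ 2 = ⊥ := by
      rw [← Ideal.map_pow, Ideal.map_eq_bot_iff_le_ker, Ideal.mk_ker, ← pow_mul]
      exact Ideal.pow_le_pow_right (by omega)
    let w₁ : B →ₐ[A] E' := (Ideal.Quotient.mkₐ A _).comp v₁
    let w₂ : B →ₐ[A] E' := (Ideal.Quotient.mkₐ A _).comp v₂
    letI : Algebra B E' := w₁.toRingHom.toAlgebra
    haveI : IsScalarTower A B E' := IsScalarTower.of_algebraMap_eq fun a => (w₁.commutes a).symm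
    have e : (Ideal.Quotient.mkₐ A I).comp w₂ = IsScalarTower.toAlgHom A B (E' ⧸ I) := by
      ext b
      change Ideal.Quotient.mk I (Ideal.Quotient.mk _ (v₂ b)) = Ideal.Quotient.mk I (Ideal.Quotient.mk _ (v₁ b))
      rw [Ideal.Quotient.eq, ← map_sub, ← neg_sub, map_neg]
      exact neg_mem (Ideal.mem_map_of_mem _ (ih b))
    let D := derivationToSquareZeroOfLift I hI w₂ e
    have hker : (⊤ : Submodule B Ω[B⁄A]) ≤ LinearMap.ker D.liftKaehlerDifferential := by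
      rw [← pow_smul_top_eq_top hΩ m, Submodule.smul_le]
      intro r hr x _
      rw [LinearMap.mem_ker, map_smul]
      refine Subtype.ext ?_
      rw [Submodule.coe_smul_of_tower, ZeroMemClass.coe_zero, Algebra.smul_def,
        show algebraMap B E' r = 0 from (congrArg (Ideal.Quotient.mk _) (hm r hr)).trans (map_zero _),
        zero_mul]
    intro b
    have h2 : D b = 0 := by
      rw [← Derivation.liftKaehlerDifferential_comp_D D b]
      exact LinearMap.mem_ker.1 (hker Submodule.mem_top)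
    have h1 := congrArg Subtype.val h2
    rw [derivationToSquareZeroOfLift_apply, ZeroMemClass.coe_zero, sub_eq_zero] at h1
    exact Ideal.Quotient.eq.1 h1.symm

theorem derivation_eq_zero_of_lift_unique {B₀ Q : Type u} [CommRing B₀] [Algebra A B₀] [Algebra B B₀]
    [IsScalarTower A B B₀] [AddCommGroup Q] [Module A Q] [Module B Q] [Module B₀ Q]
    [IsScalarTower A B₀ Q] [IsScalarTower B B₀ Q]
    (hAB : ∃ k : ℕ, (𝔞 ^ k).map (algebraMap A B) ≤ 𝔟) (hB₀ : ∀ x ∈ 𝔟, algebraMap B B₀ x = 0)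
    (h : ∀ (E : Type u) [CommRing E] [Algebra A E], (∃ k : ℕ, (𝔞 ^ k).map (algebraMap A E) = ⊥) →
      ∀ J : Ideal E, IsNilpotent J → ∀ v₁ v₂ : B →ₐ[A] E,
        (∃ m : ℕ, ∀ x ∈ 𝔟 ^ m, v₁ x = 0) → (∃ m : ℕ, ∀ x ∈ 𝔟 ^ m, v₂ x = 0) →
        (∀ b : B, Ideal.Quotient.mk J (v₁ b) = Ideal.Quotient.mk J (v₂ b)) → v₁ = v₂)
    (d : Derivation A B Q) (b : B) : d b = 0 := by
  letI : Module B₀ᵐᵒᵖ Q := Module.compHom Q ((RingHom.id B₀).fromOpposite mul_comm)
  haveI : IsCentralScalar B₀ Q := ⟨fun _ _ => rfl⟩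
  haveI : IsScalarTower A B₀ᵐᵒᵖ Q := ⟨fun a r m => smul_assoc a (MulOpposite.unop r) m⟩
  let φ : B →ₐ[A] B₀ := IsScalarTower.toAlgHom A B B₀
  let v₁ : B →ₐ[A] TrivSqZeroExt B₀ Q := (TrivSqZeroExt.inlAlgHom A B₀ Q).comp φ
  let v₂ : B →ₐ[A] TrivSqZeroExt B₀ Q :=
    { toFun := fun b => inl (φ b) + inr (d b)
      map_one' := by ext <;> simp
      map_mul' := fun x y => by
        ext
        · simp
        · simp [φ, op_smul_eq_smul, Derivation.leibniz, algebraMap_smul]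
      map_zero' := by ext <;> simp
      map_add' := fun x y => by ext <;> simp
      commutes' := fun a => by ext <;> simp [φ, algebraMap_eq_inl'] }
  let J : Ideal (TrivSqZeroExt B₀ Q) := RingHom.ker (TrivSqZeroExt.fstHom A B₀ Q).toRingHom
  have hJ : IsNilpotent J := by
    refine ⟨2, ?_⟩
    rw [pow_two, Ideal.zero_eq_bot, eq_bot_iff, Ideal.mul_le]
    intro x hx y hy
    have hx' : x.fst = 0 := RingHom.mem_ker.1 hx
    have hy' : y.fst = 0 := RingHom.mem_ker.1 hy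
    rw [Ideal.mem_bot]
    ext <;> simp [hx', hy']
  obtain ⟨k, hk⟩ := hAB
  have hA : ∃ k : ℕ, (𝔞 ^ k).map (algebraMap A (TrivSqZeroExt B₀ Q)) = ⊥ := by
    refine map_pow_eq_bot_of_map_le (algebraMap A B)
      ((algebraMap B₀ (TrivSqZeroExt B₀ Q)).comp (algebraMap B B₀)) _ ?_ ⟨k, hk⟩ ⟨1, ?_⟩
    · refine RingHom.ext fun a => ?_
      rw [RingHom.comp_apply, RingHom.comp_apply, ← IsScalarTower.algebraMap_apply A B B₀]
      simp [algebraMap_eq_inl']
    · rw [pow_one, ← Ideal.map_map, show 𝔟.map (algebraMap B B₀) = ⊥ from ?_, Ideal.map_bot]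
      rw [eq_bot_iff, Ideal.map_le_iff_le_comap]
      exact fun x hx => Ideal.mem_bot.2 (hB₀ x hx)
  have hv₁ : ∀ x ∈ 𝔟 ^ 1, v₁ x = 0 := fun x hx => by
    rw [pow_one] at hx
    ext <;> simp [v₁, φ, hB₀ x hx]
  have hv₂ : ∀ x ∈ 𝔟 ^ 2, v₂ x = 0 := by
    refine (kills_iff_map_eq_bot v₂ _).2 ?_
    rw [pow_two, eq_bot_iff, Ideal.map_le_iff_le_comap, Ideal.mul_le]
    intro x hx y hy
    rw [Ideal.mem_comap, Ideal.mem_bot]
    change v₂ (x * y) = 0
    have hx' : (v₂ x).fst = 0 := by simp [v₂, φ, hB₀ x hx]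
    have hy' : (v₂ y).fst = 0 := by simp [v₂, φ, hB₀ y hy]
    rw [map_mul]
    ext <;> simp [hx', hy']
  have heq : v₁ = v₂ := h _ hA J hJ v₁ v₂ ⟨1, hv₁⟩ ⟨2, hv₂⟩ fun b => by
    refine Ideal.Quotient.eq.2 (RingHom.mem_ker.2 ?_)
    simp [v₁, v₂, TrivSqZeroExt.fstHom]
  simpa [v₁, v₂] using (congrArg TrivSqZeroExt.snd (AlgHom.congr_fun heq b)).symm

theorem kaehler_smul_top_of_lift_unique (hAB : ∃ k : ℕ, (𝔞 ^ k).map (algebraMap A B) ≤ 𝔟)
    (h : ∀ (E : Type u) [CommRing E] [Algebra A E], (∃ k : ℕ, (𝔞 ^ k).map (algebraMap A E) = ⊥) →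
      ∀ J : Ideal E, IsNilpotent J → ∀ v₁ v₂ : B →ₐ[A] E,
        (∃ m : ℕ, ∀ x ∈ 𝔟 ^ m, v₁ x = 0) → (∃ m : ℕ, ∀ x ∈ 𝔟 ^ m, v₂ x = 0) →
        (∀ b : B, Ideal.Quotient.mk J (v₁ b) = Ideal.Quotient.mk J (v₂ b)) → v₁ = v₂) :
    𝔟 • (⊤ : Submodule B Ω[B⁄A]) = ⊤ := by
  have h0 := derivation_eq_zero_of_lift_unique (B₀ := B ⧸ 𝔟) hAB
    (fun x hx => Ideal.Quotient.eq_zero_iff_mem.2 hx) h
    ((TensorProduct.mk B (B ⧸ 𝔟) Ω[B⁄A] 1).compDer (KaehlerDifferential.D A B))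
  refine eq_top_iff.2 ?_
  conv_lhs => rw [← KaehlerDifferential.span_range_derivation A B]
  rw [Submodule.span_le]
  rintro _ ⟨b, rfl⟩
  have h2 : (1 : B ⧸ 𝔟) ⊗ₜ[B] KaehlerDifferential.D A B b = 0 := by simpa using h0 b
  have h3 := TensorProduct.quotTensorEquivQuotSMul_mk_tmul 𝔟 (1 : B) (KaehlerDifferential.D A B b)
  rw [one_smul, map_one, h2, map_zero, eq_comm, Submodule.Quotient.mk_eq_zero] at h3
  exact h3

theorem subsingleton_adicCompletion_iff {M : Type u} [AddCommGroup M] [Module B M] :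
    Subsingleton (AdicCompletion 𝔟 M) ↔ 𝔟 • (⊤ : Submodule B M) = ⊤ := by
  refine ⟨fun h => ?_, fun h => ?_⟩
  · rw [eq_top_iff]
    intro x _
    have h1 : (Submodule.Quotient.mk x : M ⧸ (𝔟 ^ 1 • ⊤ : Submodule B M)) = 0 :=
      congrArg (fun c : AdicCompletion 𝔟 M => c.val 1) (Subsingleton.elim (AdicCompletion.of 𝔟 M x) 0)
    rwa [Submodule.Quotient.mk_eq_zero, pow_one] at h1
  · refine ⟨fun x y => AdicCompletion.ext fun n => ?_⟩
    haveI : Subsingleton (M ⧸ (𝔟 ^ n • ⊤ : Submodule B M)) :=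
      Submodule.Quotient.subsingleton_iff.2 (pow_smul_top_eq_top h n)
    exact Subsingleton.elim _ _

theorem subsingleton_kaehler_quotient_iff (𝔪 : Ideal A) :
    Subsingleton (Ω[B ⧸ 𝔪.map (algebraMap A B)⁄A ⧸ 𝔪]) ↔
      (𝔪.map (algebraMap A B)) • (⊤ : Submodule B Ω[B⁄A]) = ⊤ := by
  set 𝔟 := 𝔪.map (algebraMap A B)
  let B₀ := B ⧸ 𝔟
  haveI : IsScalarTower A (A ⧸ 𝔪) B₀ := IsScalarTower.of_algebraMap_eq fun _ => rfl
  haveI : Algebra.FormallyUnramified A (A ⧸ 𝔪) :=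
    Algebra.FormallyUnramified.of_surjective (Algebra.ofId A (A ⧸ 𝔪)) Ideal.Quotient.mk_surjective
  have hbij : Function.Bijective (KaehlerDifferential.map A (A ⧸ 𝔪) B₀ B₀) :=
    GrothLib.SepField.bijective_map_of_formallyUnramified A (A ⧸ 𝔪) B₀
  have hsurj : Function.Surjective (KaehlerDifferential.mapBaseChange A B B₀) :=
    KaehlerDifferential.mapBaseChange_surjective A B B₀ Ideal.Quotient.mk_surjective
  have hker : Function.Injective (KaehlerDifferential.mapBaseChange A B B₀) := by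
    rw [← LinearMap.ker_eq_bot]
    refine eq_bot_iff.2 fun z hz => ?_
    obtain ⟨c, hc⟩ := ((KaehlerDifferential.exact_kerCotangentToTensor_mapBaseChange A B B₀
      Ideal.Quotient.mk_surjective) z).1 hz
    rw [Submodule.mem_bot, ← hc]
    obtain ⟨⟨x, hx⟩, rfl⟩ := Ideal.toCotangent_surjective _ c
    rw [KaehlerDifferential.kerCotangentToTensor_toCotangent]
    have hx' : x ∈ 𝔟 := Ideal.Quotient.eq_zero_iff_mem.1 (RingHom.mem_ker.1 hx)
    have hmem : KaehlerDifferential.D A B x ∈ 𝔟 • (⊤ : Submodule B Ω[B⁄A]) := by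
      clear hx hc hz z
      induction hx' using Submodule.span_induction with
      | mem y hy =>
        obtain ⟨a, -, rfl⟩ := hy
        rw [Derivation.map_algebraMap]
        exact zero_mem _
      | zero => rw [map_zero]; exact zero_mem _
      | add y z _ _ hy hz => rw [map_add]; exact add_mem hy hz
      | smul r y hy hDy =>
        rw [smul_eq_mul, Derivation.leibniz]
        exact add_mem (Submodule.smul_mem _ _ hDy) (Submodule.smul_mem_smul hy Submodule.mem_top)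
    refine Submodule.smul_induction_on (p := fun w => (1 : B₀) ⊗ₜ[B] w = 0) hmem (fun r hr w _ => ?_)
      (fun a b ha hb => by rw [TensorProduct.tmul_add, ha, hb, add_zero])
    rw [← TensorProduct.smul_tmul, Algebra.smul_def, mul_one,
      show algebraMap B B₀ r = 0 from Ideal.Quotient.eq_zero_iff_mem.2 hr, TensorProduct.zero_tmul]
  have e : Subsingleton (B₀ ⊗[B] Ω[B⁄A]) ↔ 𝔟 • (⊤ : Submodule B Ω[B⁄A]) = ⊤ := by
    rw [(TensorProduct.quotTensorEquivQuotSMul Ω[B⁄A] 𝔟).toEquiv.subsingleton_congr,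
      Submodule.Quotient.subsingleton_iff]
  rw [← e, ← (LinearEquiv.ofBijective _ hbij).toEquiv.subsingleton_congr]
  exact (LinearEquiv.ofBijective _ ⟨hker, hsurj⟩).toEquiv.subsingleton_congr.symm

end GrothLib.AdicFS
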